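import Cfsg.Agent.Lib.Orth.Basic
import Cfsg.Prelude.Def_GeometricClasses

/-!
Isometries of odd order lie in `Ω`.
-/

set_option autoImplicit false
set_option linter.unusedSectionVars false

namespace CfsgLib.OrthFix

open CfsgLib.Orth

variable {F : Type*} [Field F] [Fintype F] {ι : Type} [Fintype ι] [DecidableEq ι]

/-- Squares of isometries lie in the commutator subgroup. -/
theorem sq_mem_commutator {Q : QuadraticForm F (ι → F)} (hQ : Q.polarBilin.Nondegenerate)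
    (hn : Fintype.card ι ≠ 4 ∨ ∃ a : F, a ≠ 0 ∧ a ≠ 1) (g : O Q) : g ^ 2 ∈ commutator (O Q) := by
  have h : ∀ g ∈ reflClosure Q, (Abelianization.of g) ^ 2 = 1 := fun g hg => by
    induction hg using Subgroup.closure_induction with
    | mem x hx =>
      obtain ⟨v, rfl⟩ := hx
      rw [← map_pow, pow_two, refl_mul_self, map_one]
    | one => rw [map_one, one_pow]
    | mul x y _ _ hx hy => rw [map_mul, mul_pow, hx, hy, one_mul]
    | inv x _ hx => rw [map_inv, inv_pow, hx, inv_one]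
  have h1 := h g (by rw [reflClosure_eq_top hQ hn.symm]; trivial)
  rw [← map_pow] at h1
  exact (QuotientGroup.eq_one_iff _).1 h1

/-- Isometries of odd order lie in `Ω`. -/
theorem mem_omegaGL_of_pow_odd {Q : QuadraticForm F (ι → F)} (hQ : Q.polarBilin.Nondegenerate)
    (hn : Fintype.card ι ≠ 4 ∨ ∃ a : F, a ≠ 0 ∧ a ≠ 1) {x : GL ι F}
    (hx : x ∈ Cfsg.isometryGroup F (⇑Q)) {r : ℕ} (hr : Odd r) (hxr : x ^ r = 1) :
    x ∈ Cfsg.Geo.omegaGL (⇑Q) := by
  refine ⟨⟨x, hx⟩, ?_, rfl⟩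
  obtain ⟨t, ht⟩ := hr
  have hx1 : (⟨x, hx⟩ : O Q) ^ r = 1 := Subtype.ext hxr
  have : (⟨x, hx⟩ : O Q) = ((⟨x, hx⟩ : O Q) ^ 2) ^ (t + 1) := by
    rw [← pow_mul, show 2 * (t + 1) = r + 1 by omega, pow_succ, hx1, one_mul]
  have h2 := Subgroup.pow_mem _ (sq_mem_commutator hQ hn (⟨x, hx⟩ : O Q)) (t + 1)
  rw [← this] at h2
  exact h2

end CfsgLib.OrthFix
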