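import Cfsg.Agent.Lib.QuadType.Forms
import Cfsg.Agent.Lib.PrimeClasses.OrthRealise
import Cfsg.Agent.Lib.Forms.Witt

/-!
Non-degenerate subspaces of a quadratic space as orthogonal summands in coordinates.
-/

set_option autoImplicit false
set_option linter.unusedSectionVars false

namespace CfsgLib.OrthFix

open Matrix QuadraticMap CfsgLib.PrimeClasses CfsgLib.QuadType

variable {F : Type*} [Field F] [Fintype F] {ι κ μ : Type} [Fintype ι] [DecidableEq ι]
  [Fintype κ] [DecidableEq κ] [Fintype μ] [DecidableEq μ]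

/-- The first summand of `F^(κ ⊕ μ)`. -/
def leftSub (F : Type*) [Field F] (κ μ : Type) : Submodule F (κ ⊕ μ → F) :=
  LinearMap.range (LinearMap.pi (Sum.elim (fun k => LinearMap.proj k) fun _ => 0) :
    (κ → F) →ₗ[F] (κ ⊕ μ → F))

omit [Fintype F] in
theorem mem_leftSub {v : κ ⊕ μ → F} : v ∈ leftSub F κ μ ↔ v ∘ Sum.inr = 0 := by
  constructor
  · rintro ⟨u, rfl⟩
    funext j
    simp
  · intro h
    refine ⟨v ∘ Sum.inl, funext fun j => ?_⟩
    rcases j with j | j
    · simp
    · simpa using (congrFun h j).symm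

omit [Fintype F] in
/-- The image of the first summand. -/
noncomputable def summand (E : (κ ⊕ μ → F) ≃ₗ[F] (ι → F)) : Submodule F (ι → F) :=
  (leftSub F κ μ).map E.toLinearMap

omit [Fintype F] in
theorem mem_summand {E : (κ ⊕ μ → F) ≃ₗ[F] (ι → F)} {w : ι → F} :
    w ∈ summand E ↔ (E.symm w) ∘ Sum.inr = 0 := by
  rw [summand, Submodule.mem_map_equiv, mem_leftSub]

omit [Fintype F] in
/-- coordinates on the first summand -/
noncomputable def summandEquiv (E : (κ ⊕ μ → F) ≃ₗ[F] (ι → F)) : (κ → F) ≃ₗ[F] summand E :=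
  LinearEquiv.ofBijective
    (((E.toLinearMap.comp (LinearMap.pi (Sum.elim (fun k => LinearMap.proj k) fun _ => 0) :
      (κ → F) →ₗ[F] (κ ⊕ μ → F)))).codRestrict (summand E) fun u =>
        Submodule.mem_map_of_mem ⟨u, rfl⟩)
    ⟨fun u v h => by
      have h' := E.injective (congrArg Subtype.val h)
      funext k
      simpa using congrFun h' (Sum.inl k),
    fun w => by
      obtain ⟨w, v, ⟨u, rfl⟩, rfl⟩ := w
      exact ⟨u, rfl⟩⟩

omit [Fintype F] in
theorem summandEquiv_coe (E : (κ ⊕ μ → F) ≃ₗ[F] (ι → F)) (u : κ → F) :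
    ((summandEquiv E u : summand E) : ι → F) = E (Sum.elim u 0) := by
  show E _ = _
  congr 1
  funext j
  rcases j with j | j <;> simp

/-- A splitting of `Q` as an orthogonal sum. -/
def Splits (Q : QuadraticForm F (ι → F)) (Q₁ : QuadraticForm F (κ → F)) (Q₂ : QuadraticForm F (μ → F))
    (E : (κ ⊕ μ → F) ≃ₗ[F] (ι → F)) : Prop :=
  ∀ v, Q (E v) = qSum (⇑Q₁) (⇑Q₂) v

variable {Q : QuadraticForm F (ι → F)} {Q₁ : QuadraticForm F (κ → F)} {Q₂ : QuadraticForm F (μ → F)}
  {E : (κ ⊕ μ → F) ≃ₗ[F] (ι → F)}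

omit [Fintype F] in
theorem Splits.apply_summand (h : Splits Q Q₁ Q₂ E) (u : κ → F) :
    Q ((summandEquiv E u : summand E) : ι → F) = Q₁ u := by
  rw [summandEquiv_coe, h]
  simp [qSum]

omit [Fintype F] in
theorem Splits.polar_apply (h : Splits Q Q₁ Q₂ E) (u v : κ ⊕ μ → F) :
    polar Q (E u) (E v) = polar Q₁ (u ∘ Sum.inl) (v ∘ Sum.inl) + polar Q₂ (u ∘ Sum.inr) (v ∘ Sum.inr) := by
  simp only [QuadraticMap.polar, ← map_add E, h _, qSum]
  rw [show (u + v) ∘ Sum.inl = u ∘ Sum.inl + v ∘ Sum.inl from rfl,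
    show (u + v) ∘ Sum.inr = u ∘ Sum.inr + v ∘ Sum.inr from rfl]
  ring

omit [Fintype F] in
theorem Splits.nondeg_left (h : Splits Q Q₁ Q₂ E) (hQ : Q.polarBilin.Nondegenerate) :
    Q₁.polarBilin.Nondegenerate := by
  have key : ∀ u, (∀ v, polar Q₁ u v = 0) → u = 0 := fun u hu => by
    have h0 : E (Sum.elim u 0) = 0 := hQ.1 _ fun w => by
      obtain ⟨v, rfl⟩ := E.surjective w
      rw [polarBilin_apply_apply, h.polar_apply]
      simp [hu]
    funext k
    simpa using congrFun (E.map_eq_zero_iff.1 h0) (Sum.inl k)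
  exact ⟨fun u hu => key u hu, fun u hu => key u fun v => by rw [QuadraticMap.polar_comm]; exact hu v⟩

omit [Fintype F] in
theorem Splits.nondeg_right (h : Splits Q Q₁ Q₂ E) (hQ : Q.polarBilin.Nondegenerate) :
    Q₂.polarBilin.Nondegenerate := by
  have key : ∀ u, (∀ v, polar Q₂ u v = 0) → u = 0 := fun u hu => by
    have h0 : E (Sum.elim 0 u) = 0 := hQ.1 _ fun w => by
      obtain ⟨v, rfl⟩ := E.surjective w
      rw [polarBilin_apply_apply, h.polar_apply]
      simp [hu]
    funext k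
    simpa using congrFun (E.map_eq_zero_iff.1 h0) (Sum.inr k)
  exact ⟨fun u hu => key u hu, fun u hu => key u fun v => by rw [QuadraticMap.polar_comm]; exact hu v⟩

omit [Fintype F] in
theorem Splits.nondegenerateOn (h : Splits Q Q₁ Q₂ E) (hQ : Q.polarBilin.Nondegenerate) :
    Cfsg.Geo.IsNondegenerateOn (polar ⇑Q) (summand E) := by
  intro w hw hw0
  obtain ⟨u, hu⟩ := (summandEquiv E).surjective ⟨w, hw⟩
  have hwu : w = E (Sum.elim u 0) := by rw [← summandEquiv_coe, hu]
  have hu0 : u ≠ 0 := fun e => hw0 (by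
    rw [hwu, e, show (Sum.elim (0 : κ → F) (0 : μ → F)) = 0 from funext fun j => by rcases j with j | j <;> rfl,
      map_zero])
  obtain ⟨v, hv⟩ : ∃ v, polar Q₁ u v ≠ 0 := by
    by_contra hno
    push Not at hno
    exact hu0 ((h.nondeg_left hQ).1 u hno)
  refine ⟨⟨E (Sum.elim v 0), ?_, ?_⟩, ⟨E (Sum.elim v 0), ?_, ?_⟩⟩
  · exact mem_summand.2 (by simp)
  · rw [hwu, h.polar_apply]
    simpa [QuadraticMap.polar_comm] using hv
  · exact mem_summand.2 (by simp)
  · rw [hwu, h.polar_apply]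
    simpa using hv

omit [Fintype F] in
theorem finrank_summand (E : (κ ⊕ μ → F) ≃ₗ[F] (ι → F)) :
    Module.finrank F (summand E) = Fintype.card κ := by
  rw [← (summandEquiv E).finrank_eq, Module.finrank_fintype_fun_eq_card]

omit [Fintype F] in
/-- Half-dimensional singular subspaces, through coordinates. -/
theorem isPlusTypeOn_iff_of_coords {W : Submodule F (ι → F)} (e : (κ → F) ≃ₗ[F] W)
    (he : ∀ u, Q (e u : ι → F) = Q₁ u) {k : ℕ} (hk : Fintype.card κ = 2 * k) :
    Cfsg.Geo.IsPlusTypeOn (⇑Q) W ↔ IsPlus (⇑Q₁) k := by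
  have hW : Module.finrank F W = 2 * k := by
    rw [← e.finrank_eq, Module.finrank_fintype_fun_eq_card, hk]
  constructor
  · rintro ⟨U, hUW, hU, hd⟩
    let φ := W.subtype.comp e.toLinearMap
    refine ⟨U.comap φ, fun u hu => ?_, ?_⟩
    · rw [← he]; exact hU _ hu
    · have hφ : Function.Injective φ := Subtype.val_injective.comp e.injective
      have hmap : (U.comap φ).map φ = U := by
        rw [Submodule.map_comap_eq, inf_eq_right]
        intro w hw
        exact ⟨e.symm ⟨w, hUW hw⟩, by simp [φ]⟩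
      have := (Submodule.equivMapOfInjective φ hφ (U.comap φ)).finrank_eq
      rw [hmap] at this
      omega
  · rintro ⟨U, hU, hd⟩
    refine ⟨U.map (W.subtype.comp e.toLinearMap), ?_, ?_, ?_⟩
    · rintro _ ⟨u, -, rfl⟩; exact (e u).2
    · rintro _ ⟨u, hu, rfl⟩
      show Q (e u : ι → F) = 0
      rw [he]; exact hU u hu
    · rw [← (Submodule.equivMapOfInjective (W.subtype.comp e.toLinearMap)
        (Subtype.val_injective.comp e.injective) U).finrank_eq, hd, hW]

omit [Fintype F] in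
theorem Splits.isPlusTypeOn_iff (h : Splits Q Q₁ Q₂ E) {k : ℕ} (hk : Fintype.card κ = 2 * k) :
    Cfsg.Geo.IsPlusTypeOn (⇑Q) (summand E) ↔ IsPlus (⇑Q₁) k :=
  isPlusTypeOn_iff_of_coords (summandEquiv E) h.apply_summand hk

omit [Fintype F] in
theorem isCompl_orthogonal {W : Submodule F (ι → F)}
    (hW : Cfsg.Geo.IsNondegenerateOn (polar ⇑Q) W) :
    IsCompl W (LinearMap.BilinForm.orthogonal Q.polarBilin W) := by
  have hs : LinearMap.BilinForm.IsRefl Q.polarBilin := fun u v h => by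
    show polar Q v u = 0
    rw [QuadraticMap.polar_comm]; exact h
  refine LinearMap.BilinForm.isCompl_orthogonal_of_restrict_nondegenerate hs ⟨fun u hu => ?_, fun u hu => ?_⟩
  · by_contra h0
    obtain ⟨-, x, hx, hne⟩ := hW u u.2 (fun e => h0 (Subtype.ext e))
    exact hne (hu ⟨x, hx⟩)
  · by_contra h0
    obtain ⟨⟨x, hx, hne⟩, -⟩ := hW u u.2 (fun e => h0 (Subtype.ext e))
    exact hne (hu ⟨x, hx⟩)

/-- A non-degenerate subspace is an orthogonal summand. -/
theorem exists_splits {W : Submodule F (ι → F)} (hW : Cfsg.Geo.IsNondegenerateOn (polar ⇑Q) W) :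
    ∃ (a b : ℕ) (Q₁ : QuadraticForm F (Fin a → F)) (Q₂ : QuadraticForm F (Fin b → F))
      (E : (Fin a ⊕ Fin b → F) ≃ₗ[F] (ι → F)),
      Splits Q Q₁ Q₂ E ∧ summand E = W ∧ a = Module.finrank F W ∧ a + b = Fintype.card ι := by
  classical
  set W' := LinearMap.BilinForm.orthogonal Q.polarBilin W with hW'
  have hc := isCompl_orthogonal hW
  let e₁ : (Fin (Module.finrank F W) → F) ≃ₗ[F] W := (Module.finBasis F W).equivFun.symm
  let e₂ : (Fin (Module.finrank F W') → F) ≃ₗ[F] W' := (Module.finBasis F W').equivFun.symm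
  let E : (Fin (Module.finrank F W) ⊕ Fin (Module.finrank F W') → F) ≃ₗ[F] (ι → F) :=
    (LinearEquiv.sumArrowLequivProdArrow _ _ F F).trans
      ((e₁.prodCongr e₂).trans (Submodule.prodEquivOfIsCompl W W' hc))
  have hE : ∀ v, E v = (e₁ (v ∘ Sum.inl) : ι → F) + (e₂ (v ∘ Sum.inr) : ι → F) := fun v => rfl
  refine ⟨_, _, Q.comp (W.subtype.comp e₁.toLinearMap), Q.comp (W'.subtype.comp e₂.toLinearMap), E,
    fun v => ?_, ?_, rfl, ?_⟩
  · have hperp : polar Q (e₁ (v ∘ Sum.inl) : ι → F) (e₂ (v ∘ Sum.inr) : ι → F) = 0 :=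
      (e₂ (v ∘ Sum.inr)).2 _ (e₁ (v ∘ Sum.inl)).2
    rw [hE, QuadraticMap.map_add Q, hperp, add_zero]
    rfl
  · ext w
    rw [mem_summand]
    constructor
    · intro h
      have hw : w = E (E.symm w) := (E.apply_symm_apply w).symm
      rw [hw, hE, h, map_zero, Submodule.coe_zero, add_zero]
      exact (e₁ _).2
    · intro h
      have hw : w = E (Sum.elim (e₁.symm ⟨w, h⟩) 0) := by
        rw [hE]
        simp
      rw [hw, E.symm_apply_apply]
      simp
  · have := Submodule.finrank_add_eq_of_isCompl hc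
    rwa [Module.finrank_fintype_fun_eq_card] at this

omit [Fintype F] in
/-- Isometries map summands to summands. -/
theorem Splits.map (h : Splits Q Q₁ Q₂ E) (g : (ι → F) ≃ₗ[F] (ι → F)) (hg : ∀ v, Q (g v) = Q v) :
    Splits Q Q₁ Q₂ (E.trans g) ∧ summand (E.trans g) = (summand E).map g.toLinearMap :=
  ⟨fun v => by rw [LinearEquiv.trans_apply, hg, h], by
    rw [summand, summand, ← Submodule.map_comp]; rfl⟩

end CfsgLib.OrthFix
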