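import Mathlib

/-!
Block counts: in an `n`-dimensional space of a given type the number of blocks of size `cc i` moved by
an element of order `r` ranges over `0, ..., top n P i`.
-/

set_option autoImplicit false

namespace CfsgLib.OrthFix

open scoped Classical

/-- The size of an invariant block. -/
def cc (i : ℕ) : ℕ := if Even i then i else 2 * i

theorem cc_even (i : ℕ) : Even (cc i) := by
  unfold cc
  split
  · assumption
  · exact even_two_mul i

theorem cc_pos {i : ℕ} (hi : 0 < i) : 0 < cc i := by
  unfold cc
  split <;> omega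

/-- `N` blocks fit in dimension `n` with type `P`. -/
def Valid (n : ℕ) (P : Prop) (i N : ℕ) : Prop :=
  N * cc i ≤ n ∧ (N * cc i = n → (P ↔ (Odd i ∨ Even N)))

/-- The largest number of blocks. -/
noncomputable def top (n : ℕ) (P : Prop) (i : ℕ) : ℕ :=
  if n % cc i ≠ 0 ∨ (P ↔ (Odd i ∨ Even (n / cc i))) then n / cc i else n / cc i - 1

theorem valid_iff_le_top {n : ℕ} {P : Prop} {i N : ℕ} (hi : 0 < i) (h0 : 0 < n ∨ P) :
    Valid n P i N ↔ N ≤ top n P i := by
  have hc := cc_pos hi
  have hle : N * cc i ≤ n ↔ N ≤ n / cc i := (Nat.le_div_iff_mul_le hc).symm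
  unfold Valid top
  split_ifs with h
  · refine ⟨fun hv => hle.1 hv.1, fun hN => ⟨hle.2 hN, fun he => ?_⟩⟩
    have hK : n / cc i = N := by rw [← he, Nat.mul_div_cancel _ hc]
    rcases h with h | h
    · exact absurd (by rw [← he, Nat.mul_mod_left]) h
    · rwa [hK] at h
  · rw [not_or, not_not] at h
    obtain ⟨hdiv, hP⟩ := h
    have hn : n / cc i * cc i = n := Nat.div_mul_cancel (Nat.dvd_of_mod_eq_zero hdiv)
    constructor
    · rintro ⟨h1, h2⟩
      have hN := hle.1 h1
      rcases hN.eq_or_lt with e | e
      · refine absurd ?_ hP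
        have h3 := h2 (by rw [e, hn])
        rwa [e] at h3
      · omega
    · intro hN
      have hpos : 0 < n / cc i := by
        rcases Nat.eq_zero_or_pos (n / cc i) with e | e
        · have hn0 : n = 0 := by rw [← hn, e, Nat.zero_mul]
          refine absurd ?_ hP
          rw [e]
          exact iff_of_true (h0.resolve_left (by omega)) (Or.inr Even.zero)
        · exact e
      refine ⟨hle.2 (by omega), fun he => ?_⟩
      have : N = n / cc i := by rw [← he, Nat.mul_div_cancel _ hc]
      omega

end CfsgLib.OrthFix
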