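import Cfsg.Agent.Lib.OrthFix.Criterion
import Cfsg.Agent.Lib.ClassicalGroups.OrthCard
import Cfsg.Agent.Lib.Maximal99.OrderR

/-!
The `r`-part of the order of an orthogonal group is a function of the largest number of blocks; so when
`r` divides the size of an orbit of non-degenerate subspaces, that number is larger than for the complement.
-/

set_option autoImplicit false
set_option linter.unusedSectionVars false

namespace CfsgLib.OrthFix

open Matrix QuadraticMap CfsgLib.PrimeClasses CfsgLib.QuadType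

variable {F : Type*} [Field F] [Fintype F] {r : ℕ} [hr : Fact r.Prime]

/-- The `r`-part contributed by `t` blocks. -/
def blockVal (r q c t : ℕ) : ℕ := ∑ M ∈ Finset.range t, padicValNat r (q ^ (c * (M + 1)) - 1)

variable (hrK : (r : F) ≠ 0)

include hrK in
theorem not_dvd_card : ¬ r ∣ Fintype.card F := fun h => by
  obtain ⟨e, hp, he⟩ := FiniteField.card F (ringChar F)
  rw [he] at h
  have := (Nat.prime_dvd_prime_iff_eq hr.out hp).1 (hr.out.dvd_of_dvd_pow h)
  exact hrK (this ▸ ringChar.Nat.cast_ringChar)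

theorem dvd_pow_sub_one_iff (j : ℕ) : r ∣ Fintype.card F ^ j - 1 ↔ isz hrK ∣ j :=
  (CfsgLib.OrderR.orderOf_dvd_iff (q := Fintype.card F) (m := j) Fintype.card_pos).symm

theorem dvd_even_iff (j : ℕ) : r ∣ Fintype.card F ^ (2 * j) - 1 ↔ cc (isz hrK) ∣ 2 * j := by
  rw [dvd_pow_sub_one_iff hrK, cc]
  split_ifs with h
  · rfl
  · rw [Nat.Coprime.dvd_mul_left (Nat.coprime_two_right.2 (Nat.not_even_iff_odd.1 h)),
      Nat.mul_dvd_mul_iff_left two_pos]

omit [Fintype F] hr in
theorem div_pred {c k K : ℕ} (hc : Even c) (hpos : 0 < c) (hK : 2 * (k + 1) = c * (K + 1)) :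
    2 * k / c = K := by
  obtain ⟨u, hu⟩ := hc
  rw [Nat.div_eq_iff hpos, mul_comm K c]
  rw [mul_add c, mul_one] at hK
  constructor <;> omega

omit [Fintype F] hr in
theorem div_same {c k : ℕ} (hc : Even c) (hpos : 0 < c) (h : ¬ c ∣ 2 * (k + 1)) :
    2 * k / c = 2 * (k + 1) / c := by
  obtain ⟨u, hu⟩ := hc
  have hdm := Nat.div_add_mod (2 * (k + 1)) c
  have hlt := Nat.mod_lt (2 * (k + 1)) hpos
  have hne : 2 * (k + 1) % c ≠ 0 := fun e => h (Nat.dvd_of_mod_eq_zero e)
  have hev : 2 * (k + 1) % c % 2 = 0 := by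
    rw [Nat.mod_mod_of_dvd _ (show 2 ∣ c from ⟨u, by omega⟩)]; omega
  rw [Nat.div_eq_iff hpos, mul_comm (2 * (k + 1) / c) c]
  constructor <;> omega

omit [Fintype F] hr in
theorem div_odd {c k : ℕ} (hc : Even c) : 2 * k / c = (2 * k + 1) / c :=
  (Nat.succ_div_of_not_dvd fun h => by
    have := (even_iff_two_dvd.1 hc).trans h
    omega).symm

theorem val_prod (k : ℕ) :
    padicValNat r (∏ i ∈ Finset.range k, (Fintype.card F ^ (2 * (i + 1)) - 1)) =
      blockVal r (Fintype.card F) (cc (isz hrK)) (2 * k / cc (isz hrK)) := by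
  have hc := cc_pos (isz_pos (F := F) hrK)
  have hq : 2 ≤ Fintype.card F := Fintype.one_lt_card
  induction k with
  | zero => simp [blockVal]
  | succ k ih =>
    have hpos : ∀ j : ℕ, 1 ≤ j → Fintype.card F ^ j - 1 ≠ 0 := fun j hj => by
      have : Fintype.card F ^ 1 ≤ Fintype.card F ^ j := Nat.pow_le_pow_right (by omega) hj
      rw [pow_one] at this
      omega
    rw [Finset.prod_range_succ, padicValNat.mul (Finset.prod_ne_zero_iff.2 fun i _ => hpos _ (by omega))
      (hpos _ (by omega)), ih]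
    obtain ⟨u, hu⟩ := cc_even (isz hrK)
    by_cases h : cc (isz hrK) ∣ 2 * (k + 1)
    · obtain ⟨K, hK⟩ := h
      obtain ⟨K', rfl⟩ : ∃ K', K = K' + 1 := ⟨K - 1, by
        rcases Nat.eq_zero_or_pos K with h | h
        · rw [h, mul_zero] at hK; omega
        · omega⟩
      rw [hK, Nat.mul_div_cancel_left _ hc]
      have e : 2 * k / cc (isz hrK) = K' := div_pred (cc_even _) hc hK
      rw [e, blockVal, blockVal, Finset.sum_range_succ]
    · rw [padicValNat.eq_zero_of_not_dvd fun hd => h ((dvd_even_iff hrK _).1 hd), add_zero]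
      rw [div_same (cc_even _) hc h]

variable {κ : Type} [Fintype κ] [DecidableEq κ]

/-- The `r`-part of the order of the isometry group. -/
theorem val_card_isometry (hr2 : r ≠ 2) (Q : QuadraticForm F (κ → F)) (hQ : Q.polarBilin.Nondegenerate)
    (hκ : 0 < Fintype.card κ) :
    padicValNat r (Nat.card (Cfsg.isometryGroup F (⇑Q))) =
      blockVal r (Fintype.card F) (cc (isz hrK))
        (top (Fintype.card κ) (IsPlus (⇑Q) (Fintype.card κ / 2)) (isz hrK)) := by
  classical
  set q := Fintype.card F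
  set i := isz hrK
  have hi := isz_pos (F := F) hrK
  have hc := cc_pos hi
  have hq2 : 2 ≤ q := Fintype.one_lt_card
  have hrq : ¬ r ∣ q := not_dvd_card hrK
  have h2 : ¬ r ∣ 2 := fun h => hr2 ((Nat.prime_dvd_prime_iff_eq hr.out Nat.prime_two).1 h)
  have hpow : ∀ j, padicValNat r (q ^ j) = 0 := fun j =>
    padicValNat.eq_zero_of_not_dvd fun h => hrq (hr.out.dvd_of_dvd_pow h)
  have hpos : ∀ j : ℕ, 1 ≤ j → q ^ j - 1 ≠ 0 := fun j hj => by
    have : q ^ 1 ≤ q ^ j := Nat.pow_le_pow_right (by omega) hj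
    rw [pow_one] at this
    omega
  have hP : ∀ k, ∏ l ∈ Finset.range k, (q ^ (2 * (l + 1)) - 1) ≠ 0 := fun k =>
    Finset.prod_ne_zero_iff.2 fun l _ => hpos _ (by omega)
  have hcast : ∀ (Q' : (κ → F) → F) {μ : Type} [Fintype μ] [DecidableEq μ] (f : (μ → F) → F),
      QEquiv f Q' → Nat.card (Cfsg.isometryGroup F Q') = Nat.card (Cfsg.isometryGroup F f) := by
    intro Q' μ _ _ f ⟨e, he⟩
    rw [CfsgLib.ClassicalGroups.card_isometryGroup, CfsgLib.ClassicalGroups.card_isometryGroup,
      ← CfsgLib.ClassicalGroups.card_isoGroup_congr e he]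
  rcases Nat.even_or_odd' (Fintype.card κ) with ⟨k, hk | hk⟩
  · obtain ⟨a, c, hac⟩ := exists_anisotropic_binary (F := F)
    obtain ⟨h1, h2'⟩ := qEquiv_standard Q hQ hk hac
    obtain ⟨m, rfl⟩ : ∃ m, k = m + 1 := ⟨k - 1, by omega⟩
    have hdiv : Fintype.card κ / 2 = m + 1 := by omega
    rw [hdiv]
    have hm1 : q ^ (m + 1) + 1 ≠ 0 := by omega
    -- both types
    have key : ∀ (P : Prop) (x : ℕ), x ≠ 0 →
        (P → x = q ^ (m + 1) - 1) → (¬ P → x = q ^ (m + 1) + 1) →
        padicValNat r (2 * q ^ ((m + 1) * m) * x * ∏ l ∈ Finset.range m, (q ^ (2 * (l + 1)) - 1)) =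
          blockVal r q (cc i) (top (Fintype.card κ) P i) := by
      intro P x hx hxp hxm
      rw [padicValNat.mul (mul_ne_zero (mul_ne_zero two_ne_zero (pow_ne_zero _ (by omega))) hx) (hP m),
        padicValNat.mul (mul_ne_zero two_ne_zero (pow_ne_zero _ (by omega))) hx,
        padicValNat.mul two_ne_zero (pow_ne_zero _ (by omega)), hpow,
        padicValNat.eq_zero_of_not_dvd h2, zero_add, zero_add, val_prod hrK]
      have hfac : q ^ (2 * (m + 1)) - 1 = (q ^ (m + 1) + 1) * (q ^ (m + 1) - 1) := by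
        rw [CfsgLib.ClassicalGroups.sq_pred_mul, ← pow_mul, mul_comm 2]
      have hxdvd : x ∣ q ^ (2 * (m + 1)) - 1 := by
        by_cases hp : P
        · rw [hxp hp, hfac]; exact dvd_mul_left _ _
        · rw [hxm hp, hfac]; exact dvd_mul_right _ _
      have hN : 1 ≤ q ^ (m + 1) := Nat.one_le_pow _ _ (by omega)
      unfold top
      rw [hk]
      by_cases hd : cc i ∣ 2 * (m + 1)
      · obtain ⟨K, hK⟩ := hd
        obtain ⟨K', rfl⟩ : ∃ K', K = K' + 1 := ⟨K - 1, by
          rcases Nat.eq_zero_or_pos K with h | h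
          · rw [h, mul_zero] at hK; omega
          · omega⟩
        have e : 2 * m / cc i = K' := div_pred (cc_even _) hc hK
        rw [hK, Nat.mul_div_cancel_left _ hc, Nat.mul_mod_right, e]
        simp only [ne_eq, not_true, false_or]
        -- which of the two factors carries `r`
        have hone : ¬ (r ∣ q ^ (m + 1) - 1 ∧ r ∣ q ^ (m + 1) + 1) := fun ⟨ha, hb⟩ => h2 (by
          have := Nat.dvd_sub hb ha
          rwa [show q ^ (m + 1) + 1 - (q ^ (m + 1) - 1) = 2 by omega] at this)
        have hboth : r ∣ (q ^ (m + 1) + 1) * (q ^ (m + 1) - 1) := by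
          rw [← hfac]; exact (dvd_even_iff hrK _).2 (Dvd.intro _ hK.symm)
        have hwhich : r ∣ q ^ (m + 1) - 1 ↔ (Odd i ∨ Even (K' + 1)) := by
          rw [dvd_pow_sub_one_iff hrK]
          rcases Nat.even_or_odd i with he | ho
          · have hci : cc i = i := by rw [cc, if_pos he]
            rw [hci] at hK
            refine ⟨fun ⟨t, ht⟩ => Or.inr ?_, fun h => ?_⟩
            · change m + 1 = i * t at ht
              exact ⟨t, Nat.eq_of_mul_eq_mul_left hi (by rw [← hK, ht]; ring)⟩
            · obtain ⟨t, ht⟩ := h.resolve_left (Nat.not_odd_iff_even.2 he)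
              rw [ht, mul_add i] at hK
              exact ⟨t, show m + 1 = i * t by omega⟩
          · have hci : cc i = 2 * i := by rw [cc, if_neg (Nat.not_even_iff_odd.2 ho)]
            rw [hci] at hK
            exact iff_of_true ⟨K' + 1, Nat.eq_of_mul_eq_mul_left two_pos (by rw [hK]; ring)⟩ (Or.inl ho)
        have hlast : padicValNat r (q ^ (cc i * (K' + 1)) - 1) =
            padicValNat r (q ^ (m + 1) + 1) + padicValNat r (q ^ (m + 1) - 1) := by
          rw [← hK, hfac, padicValNat.mul hm1 (hpos _ (by omega))]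
        by_cases hp : P
        · rw [hxp hp]
          by_cases hor : Odd i ∨ Even (K' + 1)
          · rw [if_pos (iff_of_true hp hor), blockVal, blockVal, Finset.sum_range_succ, hlast,
              padicValNat.eq_zero_of_not_dvd (n := q ^ (m + 1) + 1) fun h => hone ⟨hwhich.2 hor, h⟩,
              zero_add, add_comm]
          · rw [if_neg (fun h => hor (h.1 hp)), padicValNat.eq_zero_of_not_dvd (fun h => hor (hwhich.1 h)),
              zero_add, Nat.add_sub_cancel]
        · rw [hxm hp]
          by_cases hor : Odd i ∨ Even (K' + 1)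
          · rw [if_neg (fun h => hp (h.2 hor)), padicValNat.eq_zero_of_not_dvd fun h => hone ⟨hwhich.2 hor, h⟩,
              zero_add, Nat.add_sub_cancel]
          · have hno : ¬ r ∣ q ^ (m + 1) - 1 := fun h => hor (hwhich.1 h)
            rw [if_pos (iff_of_false hp hor), blockVal, blockVal, Finset.sum_range_succ, hlast,
              padicValNat.eq_zero_of_not_dvd hno, add_zero, add_comm]
      · rw [if_pos (Or.inl fun h => hd (Nat.dvd_of_mod_eq_zero h)),
          padicValNat.eq_zero_of_not_dvd fun h => hd ((dvd_even_iff hrK _).1 (h.trans hxdvd)), zero_add]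
        rw [div_same (cc_even _) hc hd]
    by_cases hp : IsPlus (⇑Q) (m + 1)
    · rw [hcast _ _ (h1 hp), CfsgLib.ClassicalGroups.card_isometry_plus]
      exact key _ _ (hpos _ (by omega)) (fun _ => rfl) (fun h => absurd hp h)
    · rw [hcast _ _ (h2' hp).2, show m + 1 - 1 = m from rfl, CfsgLib.ClassicalGroups.card_isometry_minus hac]
      exact key _ _ hm1 (fun h => absurd h hp) (fun _ => rfl)
  · obtain ⟨hF2, s, hs, he⟩ := qEquiv_odd Q hQ hk
    have hsame : Cfsg.isometryGroup F (fun v => s * Cfsg.quadFormOdd k F v) =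
        Cfsg.isometryGroup F (Cfsg.quadFormOdd k F) := by
      ext g
      constructor
      · intro h u v
        exact mul_left_cancel₀ hs (h u v)
      · intro h u v
        show s * _ = s * _
        exact congrArg (s * ·) (h u v)
    rw [hcast _ _ he, hsame, CfsgLib.ClassicalGroups.card_isometry_odd hF2,
      padicValNat.mul (mul_ne_zero two_ne_zero (pow_ne_zero _ (by omega))) (hP k),
      padicValNat.mul two_ne_zero (pow_ne_zero _ (by omega)), hpow,
      padicValNat.eq_zero_of_not_dvd h2, zero_add, zero_add, val_prod hrK]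
    congr 1
    show 2 * k / cc i = top _ _ i
    obtain ⟨u, hu⟩ := cc_even i
    unfold top
    have hodd : Fintype.card κ % cc i ≠ 0 := by
      intro h
      have := (even_iff_two_dvd.1 (cc_even i)).trans (Nat.dvd_of_mod_eq_zero h)
      omega
    rw [if_pos (Or.inl hodd), hk]
    exact div_odd (cc_even _)

section Orbit

variable {ι μ : Type} [Fintype ι] [DecidableEq ι] [Fintype μ] [DecidableEq μ]
  {Q : QuadraticForm F (ι → F)} {Q₁ : QuadraticForm F (κ → F)} {Q₂ : QuadraticForm F (μ → F)}

omit hr in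
/-- The size of the orbit times the isometry groups of both summands divides the isometry group. -/
theorem card_class_mul_dvd {E : (κ ⊕ μ → F) ≃ₗ[F] (ι → F)} (hE : Splits Q Q₁ Q₂ E)
    (hQ : Q.polarBilin.Nondegenerate) :
    Nat.card {W : Submodule F (ι → F) // InClass (⇑Q) (summand E) W} *
      (Nat.card (Cfsg.isometryGroup F (⇑Q₁)) * Nat.card (Cfsg.isometryGroup F (⇑Q₂))) ∣
      Nat.card (Cfsg.isometryGroup F (⇑Q)) := by
  classical
  rw [CfsgLib.ClassicalGroups.card_isometryGroup, CfsgLib.ClassicalGroups.card_isometryGroup,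
    CfsgLib.ClassicalGroups.card_isometryGroup, ← Nat.card_prod]
  let G := CfsgLib.ClassicalGroups.isoGroup (⇑Q)
  let act : MulAction G (Submodule F (ι → F)) :=
    { smul := fun g W => W.map g.1.toLinearMap
      one_smul := fun W => by show W.map _ = W; ext v; simp
      mul_smul := fun g h W => by
        show W.map _ = (W.map _).map _
        rw [← Submodule.map_comp]; rfl }
  have hsm : ∀ (g : G) (W : Submodule F (ι → F)), g • W = W.map g.1.toLinearMap := fun _ _ => rfl
  have horb : ∀ W, W ∈ MulAction.orbit G (summand E) ↔ InClass (⇑Q) (summand E) W := by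
    intro W
    constructor
    · rintro ⟨g, rfl⟩
      obtain ⟨hsp, hsum⟩ := hE.map g.1 g.2
      show InClass _ _ (g • summand E)
      rw [hsm, ← hsum]
      refine ⟨hsp.nondegenerateOn hQ, (summandEquiv E).symm.trans (summandEquiv (E.trans g.1)), fun w => ?_⟩
      obtain ⟨u, rfl⟩ := (summandEquiv E).surjective w
      simp only [LinearEquiv.trans_apply, LinearEquiv.symm_apply_apply]
      rw [hsp.apply_summand, hE.apply_summand]
    · rintro ⟨-, h⟩
      obtain ⟨g, hg, hgW⟩ := exists_map_eq hQ h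
      exact ⟨⟨g, hg⟩, hgW⟩
  have h1 : Nat.card {W : Submodule F (ι → F) // InClass (⇑Q) (summand E) W} =
      (MulAction.stabilizer G (summand E)).index := by
    rw [MulAction.index_stabilizer, ← Nat.card_coe_set_eq]
    exact Nat.card_congr (Equiv.subtypeEquivRight fun W => (horb W).symm)
  rw [h1, ← Subgroup.index_mul_card (MulAction.stabilizer G (summand E))]
  refine Nat.mul_dvd_mul_left _ ?_
  let emb : CfsgLib.ClassicalGroups.isoGroup (⇑Q₁) × CfsgLib.ClassicalGroups.isoGroup (⇑Q₂) →* G :=
    { toFun := fun h => ⟨E.symm.trans (((LinearEquiv.sumArrowLequivProdArrow κ μ F F).trans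
          ((h.1.1.prodCongr h.2.1).trans
            (LinearEquiv.sumArrowLequivProdArrow κ μ F F).symm)).trans E), fun v => by
        obtain ⟨u, rfl⟩ := E.surjective v
        simp only [LinearEquiv.trans_apply, LinearEquiv.symm_apply_apply]
        rw [hE, hE]
        show Q₁ _ + Q₂ _ = Q₁ _ + Q₂ _
        rw [← h.1.2 (u ∘ Sum.inl), ← h.2.2 (u ∘ Sum.inr)]
        rfl⟩
      map_one' := Subtype.ext (LinearEquiv.ext fun v => by
        obtain ⟨u, rfl⟩ := E.surjective v
        show E _ = E u
        congr 1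
        funext j
        rcases j with j | j <;> simp)
      map_mul' := fun a b => Subtype.ext (LinearEquiv.ext fun v => by
        obtain ⟨u, rfl⟩ := E.surjective v
        show E _ = E _
        congr 1
        funext j
        rcases j with j | j <;> simp) }
  have hinj : Function.Injective emb := fun a b h => by
    refine Prod.ext (Subtype.ext (LinearEquiv.ext fun w => funext fun j => ?_))
      (Subtype.ext (LinearEquiv.ext fun w => funext fun j => ?_))
    · have h' := LinearEquiv.congr_fun (congrArg Subtype.val h) (E (Sum.elim w 0))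
      simp only [emb, MonoidHom.coe_mk, OneHom.coe_mk, LinearEquiv.trans_apply, LinearEquiv.symm_apply_apply] at h'
      simpa [LinearEquiv.sumArrowLequivProdArrow, Equiv.sumArrowEquivProdArrow, Function.comp_def] using
        congrFun (E.injective h') (Sum.inl j)
    · have h' := LinearEquiv.congr_fun (congrArg Subtype.val h) (E (Sum.elim 0 w))
      simp only [emb, MonoidHom.coe_mk, OneHom.coe_mk, LinearEquiv.trans_apply, LinearEquiv.symm_apply_apply] at h'
      simpa [LinearEquiv.sumArrowLequivProdArrow, Equiv.sumArrowEquivProdArrow, Function.comp_def] using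
        congrFun (E.injective h') (Sum.inr j)
  have hle : emb.range ≤ MulAction.stabilizer G (summand E) := by
    rintro _ ⟨h, rfl⟩
    rw [MulAction.mem_stabilizer_iff, hsm]
    refine Submodule.eq_of_le_of_finrank_le ?_ (by rw [LinearEquiv.finrank_map_eq])
    rintro _ ⟨w, hw, rfl⟩
    rw [SetLike.mem_coe, mem_summand] at hw
    rw [mem_summand]
    simp only [emb, MonoidHom.coe_mk, OneHom.coe_mk, LinearEquiv.coe_toLinearMap, LinearEquiv.trans_apply,
      LinearEquiv.symm_apply_apply]
    funext j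
    show h.2.1 (E.symm w ∘ Sum.inr) j = 0
    simp [hw]
  rw [Nat.card_congr (MonoidHom.ofInjective hinj).toEquiv]
  exact Subgroup.card_dvd_of_le hle

/-- If `r` divides the orbit size both summands have fewer blocks. -/
theorem top_ne_of_dvd (hr2 : r ≠ 2) {E : (κ ⊕ μ → F) ≃ₗ[F] (ι → F)} (hE : Splits Q Q₁ Q₂ E)
    (hQ : Q.polarBilin.Nondegenerate) {P₁ P₂ : Prop} (hP₁ : IsPlus (⇑Q₁) (Fintype.card κ / 2) ↔ P₁)
    (hP₂ : IsPlus (⇑Q₂) (Fintype.card μ / 2) ↔ P₂)
    (hι : 0 < Fintype.card ι) (hκ : 0 < Fintype.card κ) (hμ : 0 < Fintype.card μ)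
    (hdvd : r ∣ Nat.card {W : Submodule F (ι → F) // InClass (⇑Q) (summand E) W}) :
    top (Fintype.card κ) P₁ (isz hrK) ≠
      top (Fintype.card ι) (IsPlus (⇑Q) (Fintype.card ι / 2)) (isz hrK) ∧
    top (Fintype.card μ) P₂ (isz hrK) ≠
      top (Fintype.card ι) (IsPlus (⇑Q) (Fintype.card ι / 2)) (isz hrK) := by
  rw [← propext hP₁, ← propext hP₂]
  have hmul := card_class_mul_dvd hE hQ
  have hne : Nat.card (Cfsg.isometryGroup F (⇑Q)) ≠ 0 := Nat.card_pos.ne'
  have hne1 : Nat.card (Cfsg.isometryGroup F (⇑Q₁)) ≠ 0 := Nat.card_pos.ne'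
  have hne2 : Nat.card (Cfsg.isometryGroup F (⇑Q₂)) ≠ 0 := Nat.card_pos.ne'
  obtain ⟨t, ht⟩ := (Nat.mul_dvd_mul_right hdvd _).trans hmul
  have v1 := val_card_isometry hrK hr2 Q₁ (hE.nondeg_left hQ) hκ
  have v2 := val_card_isometry hrK hr2 Q₂ (hE.nondeg_right hQ) hμ
  have hv := val_card_isometry hrK hr2 Q hQ hι
  rw [ht, padicValNat.mul (mul_ne_zero hr.out.ne_zero (mul_ne_zero hne1 hne2))
      (fun e => hne (by rw [ht, e, mul_zero])),
    padicValNat.mul hr.out.ne_zero (mul_ne_zero hne1 hne2), padicValNat.mul hne1 hne2,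
    padicValNat.self hr.out.one_lt] at hv
  constructor <;> intro h
  · rw [← h, ← v1] at hv; omega
  · rw [← h, ← v2] at hv; omega

end Orbit

end CfsgLib.OrthFix
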