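import Cfsg.Agent.Lib.OrthFix.Tuples

/-!
When does every isometry of odd prime order `r ≠ p` fix a member of the orbit of a non-degenerate
subspace: in terms of numbers of blocks.
-/

set_option autoImplicit false
set_option linter.unusedSectionVars false

namespace CfsgLib.OrthFix

open Matrix QuadraticMap CfsgLib.PrimeClasses CfsgLib.QuadType

variable {F : Type*} [Field F] [Fintype F] {ι κ μ : Type} [Fintype ι] [DecidableEq ι]
  [Fintype κ] [DecidableEq κ] [Fintype μ] [DecidableEq μ]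

omit [Fintype F] in
/-- `W` is mapped to itself. -/
def Inv (X : Matrix ι ι F) (W : Submodule F (ι → F)) : Prop := W.map (Matrix.toLin' X) ≤ W

/-- `W'` is non-degenerate and isometric to `W`. -/
def InClass (Q : (ι → F) → F) (W W' : Submodule F (ι → F)) : Prop :=
  Cfsg.Geo.IsNondegenerateOn (polar Q) W' ∧ Cfsg.Geo.AreIsometricFor Q W W'

omit [Fintype F] in
theorem apply_invariant {X : Matrix ι ι F} {W : Submodule F (ι → F)} (h : Inv X W) {v : ι → F}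
    (hv : v ∈ W) : X *ᵥ v ∈ W := by
  have := h (Submodule.mem_map_of_mem hv)
  rwa [Matrix.toLin'_apply] at this

/-- Isometric non-degenerate subspaces are carried to one another by an isometry. -/
theorem exists_map_eq {Q : QuadraticForm F (ι → F)} (hQ : Q.polarBilin.Nondegenerate)
    {W W' : Submodule F (ι → F)} (h : Cfsg.Geo.AreIsometricFor (⇑Q) W W') :
    ∃ g : (ι → F) ≃ₗ[F] (ι → F), (∀ v, Q (g v) = Q v) ∧ W.map g.toLinearMap = W' := by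
  obtain ⟨e, he⟩ := h
  obtain ⟨g, hg, hgx⟩ := CfsgLib.Forms.quad_witt_extension Q hQ W (W'.subtype.comp e.toLinearMap)
    (Subtype.val_injective.comp e.injective) (fun x => he x)
  refine ⟨g, hg, le_antisymm ?_ ?_⟩
  · rintro _ ⟨x, hx, rfl⟩
    rw [LinearEquiv.coe_toLinearMap, show g x = (e ⟨x, hx⟩ : ι → F) from hgx ⟨x, hx⟩]
    exact (e _).2
  · intro w hw
    refine ⟨(e.symm ⟨w, hw⟩ : ι → F), (e.symm _).2, ?_⟩
    rw [LinearEquiv.coe_toLinearMap, hgx]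
    simp

variable {r : ℕ} [hr : Fact r.Prime] {L : Type*} [Field L] [Algebra F L] {ζ : L}
  (hζ : IsPrimitiveRoot ζ r) {hrK : (r : F) ≠ 0}
  {Q : QuadraticForm F (ι → F)} {Q₁ : QuadraticForm F (κ → F)} {Q₂ : QuadraticForm F (μ → F)}

include hζ in
/-- An invariant summand splits the tuple. -/
theorem split_of_invariant {E : (κ ⊕ μ → F) ≃ₗ[F] (ι → F)} (hE : Splits Q Q₁ Q₂ E)
    (hQ : Q.polarBilin.Nondegenerate) {X : Matrix ι ι F} (hX : X ^ r = 1) (hXQ : ∀ v, Q (X *ᵥ v) = Q v)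
    (hW : Inv X (summand E)) :
    ∃ c₁ c₂, ORealised hζ hrK (⇑Q₁) c₁ ∧ ORealised hζ hrK (⇑Q₂) c₂ ∧ orbitMult hζ hrK X = c₁ + c₂ := by
  classical
  obtain ⟨Y, hY, hYc, hYe⟩ := CfsgLib.PrimeClasses.exists_transport hζ hrK E.symm hX
  have hYX : ∀ v, E (Y *ᵥ v) = X *ᵥ E v := fun v => by
    have h := hYe (E v)
    rw [E.symm_apply_apply] at h
    rw [h, E.apply_symm_apply]
  have hYQ : ∀ v, qSum ⇑Q₁ ⇑Q₂ (Y *ᵥ v) = qSum ⇑Q₁ ⇑Q₂ v := fun v => by
    rw [← hE, ← hE, hYX, hXQ]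
  -- the first summand is invariant
  have hC : ∀ u : κ → F, Y.toBlocks₂₁ *ᵥ u = 0 := fun u => by
    have h1 : X *ᵥ E (Sum.elim u 0) ∈ summand E :=
      apply_invariant hW (mem_summand.2 (by simp))
    rw [mem_summand, ← hYX, E.symm_apply_apply] at h1
    conv_lhs at h1 => rw [← fromBlocks_toBlocks Y]
    rw [fromBlocks_mulVec] at h1
    simpa using h1
  have hC0 : Y.toBlocks₂₁ = 0 := Matrix.ext_of_mulVec_single fun j => by rw [hC, zero_mulVec]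
  set A := Y.toBlocks₁₁
  set B := Y.toBlocks₁₂
  set D := Y.toBlocks₂₂
  have hYb : Y = fromBlocks A B 0 D := by rw [← hC0]; exact (fromBlocks_toBlocks Y).symm
  have hA : ∀ u, Q₁ (A *ᵥ u) = Q₁ u := fun u => by
    have := hYQ (Sum.elim u 0)
    rw [hYb, fromBlocks_mulVec] at this
    simpa [qSum] using this
  have hAinj : Function.Injective A.mulVecLin := by
    rw [injective_iff_map_eq_zero]
    intro u hu
    refine (hE.nondeg_left hQ).1 u fun v => ?_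
    have e : ∀ a b, polar ⇑Q₁ (A *ᵥ a) (A *ᵥ b) = polar ⇑Q₁ a b := fun a b => by
      simp only [QuadraticMap.polar, ← mulVec_add, hA]
    rw [polarBilin_apply_apply, ← e, show A *ᵥ u = 0 from hu, QuadraticMap.polar_zero_left]
  have hAsurj : Function.Surjective A.mulVecLin := LinearMap.surjective_of_injective hAinj
  -- and so is the second
  have hB : ∀ w, B *ᵥ w = 0 := fun w => by
    refine (hE.nondeg_left hQ).1 _ fun v => ?_
    obtain ⟨u, rfl⟩ := hAsurj v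
    have e1 := hYQ (Sum.elim u w)
    have e2 := hYQ (Sum.elim 0 w)
    rw [hYb, fromBlocks_mulVec] at e1 e2
    simp [qSum] at e1 e2
    rw [QuadraticMap.map_add Q₁ (A *ᵥ u) (B *ᵥ w), hA] at e1
    rw [polarBilin_apply_apply, QuadraticMap.polar_comm]
    show polar ⇑Q₁ (A *ᵥ u) (B *ᵥ w) = 0
    linear_combination e1 - e2
  have hB0 : B = 0 := Matrix.ext_of_mulVec_single fun j => by rw [hB, zero_mulVec]
  rw [hB0] at hYb
  have hD : ∀ w, Q₂ (D *ᵥ w) = Q₂ w := fun w => by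
    have := hYQ (Sum.elim 0 w)
    rw [hYb, fromBlocks_mulVec] at this
    simpa [qSum] using this
  have hpow := hY
  rw [hYb, fromBlocks_pow, ← fromBlocks_one, fromBlocks_inj] at hpow
  refine ⟨_, _, ⟨A, hpow.1, hA, rfl⟩, ⟨D, hpow.2.2.2, hD, rfl⟩, ?_⟩
  rw [← hYc, hYb, orbitMult_fromBlocks]

include hζ in
/-- A split tuple fixes a translate of the summand. -/
theorem invariant_of_split (hgen : Algebra.adjoin F ({ζ} : Set L) = ⊤) (hr2 : r ≠ 2)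
    {E : (κ ⊕ μ → F) ≃ₗ[F] (ι → F)} (hE : Splits Q Q₁ Q₂ E) (hQ : Q.polarBilin.Nondegenerate)
    {X : Matrix ι ι F} (hX : X ^ r = 1) (hXQ : ∀ v, Q (X *ᵥ v) = Q v) {c₁ c₂ : Orbits hrK → ℕ}
    (h₁ : ORealised hζ hrK (⇑Q₁) c₁) (h₂ : ORealised hζ hrK (⇑Q₂) c₂)
    (hc : orbitMult hζ hrK X = c₁ + c₂) :
    ∃ W, InClass (⇑Q) (summand E) W ∧ Inv X W := by
  classical
  obtain ⟨X₁, hX₁, hX₁Q, rfl⟩ := h₁
  obtain ⟨X₂, hX₂, hX₂Q, rfl⟩ := h₂
  obtain ⟨Y, hY, hYc, hYe⟩ := CfsgLib.PrimeClasses.exists_transport hζ hrK E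
    (X := fromBlocks X₁ 0 0 X₂) (by rw [fromBlocks_pow, hX₁, hX₂, fromBlocks_one])
  rw [orbitMult_fromBlocks, ← hc] at hYc
  have hYQ : ∀ w, Q (Y *ᵥ w) = Q w := fun w => by
    obtain ⟨v, rfl⟩ := E.surjective w
    rw [hYe, hE, hE]
    simp [qSum, fromBlocks_mulVec, hX₁Q, hX₂Q]
  obtain ⟨g, hg⟩ := exists_conj_of_orbitMult hζ hgen hrK hY hX hYc
  obtain ⟨x, rfl⟩ : ∃ x : GL ι F, (x : Matrix ι ι F) = X :=
    ⟨(IsUnit.of_pow_eq_one hX hr.out.ne_zero).unit, IsUnit.unit_spec _⟩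
  obtain ⟨y, rfl⟩ : ∃ y : GL ι F, (y : Matrix ι ι F) = Y :=
    ⟨(IsUnit.of_pow_eq_one hY hr.out.ne_zero).unit, IsUnit.unit_spec _⟩
  have hconj := IsomConj.O_isConj_of_similar Q hQ (hr.out.odd_of_ne_two hr2) hrK
    (⟨y, fun u _ => hYQ u⟩ : Cfsg.isometryGroup F ⇑Q) ⟨x, fun u _ => hXQ u⟩
    (Subtype.ext (Units.ext (by simpa using hY)))
    (isConj_iff.2 ⟨g, mul_inv_eq_iff_eq_mul.2 (Units.ext hg)⟩)
  obtain ⟨T, hT⟩ := isConj_iff.1 hconj
  rw [mul_inv_eq_iff_eq_mul] at hT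
  have hT' : ((T : GL ι F) : Matrix ι ι F) * (y : Matrix ι ι F) =
      (x : Matrix ι ι F) * ((T : GL ι F) : Matrix ι ι F) :=
    congrArg (fun z : Cfsg.isometryGroup F ⇑Q => ((z : GL ι F) : Matrix ι ι F)) hT
  let t : (ι → F) ≃ₗ[F] (ι → F) := Matrix.toLin'OfInv (T : GL ι F).inv_mul (T : GL ι F).mul_inv
  have ht : ∀ v, t v = ((T : GL ι F) : Matrix ι ι F) *ᵥ v := fun v => rfl
  have htQ : ∀ v, Q (t v) = Q v := fun v => T.2 v v
  obtain ⟨hsp, hsum⟩ := hE.map t htQ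
  refine ⟨summand (E.trans t), ⟨hsp.nondegenerateOn hQ, ?_⟩, ?_⟩
  · refine ⟨(summandEquiv E).symm.trans (summandEquiv (E.trans t)), fun w => ?_⟩
    obtain ⟨u, rfl⟩ := (summandEquiv E).surjective w
    simp only [LinearEquiv.trans_apply, LinearEquiv.symm_apply_apply]
    rw [hsp.apply_summand, hE.apply_summand]
  · rintro _ ⟨w, hw, rfl⟩
    rw [hsum] at hw ⊢
    obtain ⟨v, hv, rfl⟩ := hw
    refine ⟨(y : Matrix ι ι F) *ᵥ v, ?_, ?_⟩
    · obtain ⟨u, rfl⟩ := E.surjective v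
      rw [SetLike.mem_coe, mem_summand, E.symm_apply_apply] at hv
      rw [SetLike.mem_coe, mem_summand, hYe, E.symm_apply_apply, fromBlocks_mulVec, hv]
      simp
    · rw [LinearEquiv.coe_toLinearMap, Matrix.toLin'_apply, ht, ht, mulVec_mulVec, mulVec_mulVec, hT']

/-- The criterion. -/
theorem all_fix_iff (hr2 : r ≠ 2) (hrK : (r : F) ≠ 0) (hQ : Q.polarBilin.Nondegenerate)
    {E : (κ ⊕ μ → F) ≃ₗ[F] (ι → F)} (hE : Splits Q Q₁ Q₂ E) {P₁ P₂ : Prop}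
    (hP₁ : IsPlus (⇑Q₁) (Fintype.card κ / 2) ↔ P₁) (hP₂ : IsPlus (⇑Q₂) (Fintype.card μ / 2) ↔ P₂)
    (hι : 0 < Fintype.card ι) (hκ : 0 < Fintype.card κ) (hμ : 0 < Fintype.card μ) :
    (∀ X : Matrix ι ι F, X ^ r = 1 → X ≠ 1 → (∀ v, Q (X *ᵥ v) = Q v) →
      ∃ W, InClass (⇑Q) (summand E) W ∧ Inv X W) ↔
    top (Fintype.card ι) (IsPlus (⇑Q) (Fintype.card ι / 2)) (isz hrK) ≤
      top (Fintype.card κ) P₁ (isz hrK) + top (Fintype.card μ) P₂ (isz hrK) := by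
  classical
  obtain ⟨ζ, hζ, hgen⟩ := exists_root hrK
  rw [← propext hP₁, ← propext hP₂]
  have hi := isz_pos (F := F) hrK
  set t := top (Fintype.card ι) (IsPlus (⇑Q) (Fintype.card ι / 2)) (isz hrK)
  constructor
  · intro hall
    rcases Nat.eq_zero_or_pos t with h0 | hpos
    · omega
    obtain ⟨d, hd⟩ := exists_isBlocks hr2 (hrK := hrK) t
    obtain ⟨X, hX, hXQ, hXc⟩ := (realised_iff hζ hgen hr2 Q hQ d).2
      ⟨t, hd, (valid_iff_le_top hi (Or.inl hι)).2 le_rfl⟩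
    have hX1 : X ≠ 1 := fun h => by
      rw [h, orbitMult_one] at hXc
      have h2 := hd.2
      rw [← hXc] at h2
      simp only [Pi.zero_apply, Finset.sum_const_zero, mul_zero] at h2
      exact absurd h2 (Nat.mul_pos hpos (cc_pos hi)).ne
    obtain ⟨W, ⟨-, hW⟩, hWX⟩ := hall X hX hX1 hXQ
    obtain ⟨g, hg, hgW⟩ := exists_map_eq hQ hW
    obtain ⟨hsp, hsum⟩ := hE.map g hg
    rw [hgW] at hsum
    obtain ⟨c₁, c₂, h1, h2, hc⟩ := split_of_invariant hζ (hrK := hrK) hsp hQ hX hXQ (hsum.symm ▸ hWX)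
    obtain ⟨N₁, hN₁, hv₁⟩ := (realised_iff hζ hgen hr2 Q₁ (hE.nondeg_left hQ) c₁).1 h1
    obtain ⟨N₂, hN₂, hv₂⟩ := (realised_iff hζ hgen hr2 Q₂ (hE.nondeg_right hQ) c₂).1 h2
    rw [hXc] at hc
    have := (hc ▸ hd).unique (hN₁.add hN₂)
    have := (valid_iff_le_top hi (Or.inl hκ)).1 hv₁
    have := (valid_iff_le_top hi (Or.inl hμ)).1 hv₂
    omega
  · intro hle X hX _ hXQ
    obtain ⟨N, hN, hv⟩ := (realised_iff hζ hgen hr2 Q hQ (orbitMult hζ hrK X)).1 ⟨X, hX, hXQ, rfl⟩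
    have hNt : N ≤ t := (valid_iff_le_top hi (Or.inl hι)).1 hv
    set t₁ := top (Fintype.card κ) (IsPlus (⇑Q₁) (Fintype.card κ / 2)) (isz hrK)
    obtain ⟨d₁, d₂, hd₁, hd₂, hd⟩ := exists_split_blocks hr2 (min N t₁) (N₂ := N - min N t₁)
      (by rw [Nat.add_sub_cancel' (min_le_left _ _)]; exact hN)
    refine invariant_of_split hζ hgen hr2 hE hQ hX hXQ ?_ ?_ hd.symm
    · exact (realised_iff hζ hgen hr2 Q₁ (hE.nondeg_left hQ) d₁).2
        ⟨_, hd₁, (valid_iff_le_top hi (Or.inl hκ)).2 (min_le_right _ _)⟩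
    · exact (realised_iff hζ hgen hr2 Q₂ (hE.nondeg_right hQ) d₂).2
        ⟨_, hd₂, (valid_iff_le_top hi (Or.inl hμ)).2 (by omega)⟩

end CfsgLib.OrthFix
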