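import Cfsg.Agent.Lib.OrthFix.Criterion
import Cfsg.Agent.Lib.QuadFin.Gram

/-!
Odd characteristic: every smaller form embeds; every involutive isometry fixes a member of every class of
non-degenerate subspaces.
-/

set_option autoImplicit false
set_option linter.unusedSectionVars false

namespace CfsgLib.OrthFix

open Matrix QuadraticMap CfsgLib.PrimeClasses

variable {F : Type*} [Field F] [Fintype F] {ι κ μ : Type} [Fintype ι] [DecidableEq ι]
  [Fintype κ] [DecidableEq κ] [Fintype μ] [DecidableEq μ]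

/-- A form with non-degenerate polar form is diagonalisable. -/
theorem exists_diag (h2 : (2 : F) ≠ 0) (Q : QuadraticForm F (ι → F)) (hQ : Q.polarBilin.Nondegenerate) {n : ℕ}
    (hn : Fintype.card ι = n) :
    ∃ (w : Fin n → F) (g : (Fin n → F) ≃ₗ[F] (ι → F)), (∀ i, w i ≠ 0) ∧ ∀ v, Q (g v) = ∑ i, w i * v i ^ 2 := by
  let : Invertible (2 : F) := invertibleOfNonzero h2
  have hsep : (QuadraticMap.associated (R := F) Q).SeparatingLeft := by
    intro x hx
    refine hQ.1 x fun y => ?_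
    rw [← QuadraticMap.two_nsmul_associated F Q, LinearMap.smul_apply, LinearMap.smul_apply, hx y, smul_zero]
  obtain ⟨w, ⟨e⟩⟩ := Q.equivalent_weightedSumSquares_units_of_nondegenerate' hsep
  have hrank : Module.finrank F (ι → F) = n := by rw [Module.finrank_fintype_fun_eq_card, hn]
  let p : (Fin n → F) ≃ₗ[F] (Fin (Module.finrank F (ι → F)) → F) := LinearEquiv.funCongrLeft F F (finCongr hrank)
  refine ⟨fun i => w (finCongr hrank.symm i), p.trans e.toLinearEquiv.symm, fun i => Units.ne_zero _, fun v => ?_⟩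
  rw [LinearEquiv.trans_apply, ← e.map_app (e.toLinearEquiv.symm (p v))]
  change QuadraticMap.weightedSumSquares F w (e.toLinearEquiv (e.toLinearEquiv.symm (p v))) = _
  rw [LinearEquiv.apply_symm_apply, QuadraticMap.weightedSumSquares_apply]
  refine Fintype.sum_equiv (finCongr hrank) _ _ fun i => ?_
  simp [p, Units.smul_def, pow_two]

/-- A smaller form is an orthogonal summand. -/
theorem exists_splits_of_form (h2 : (2 : F) ≠ 0) (Q : QuadraticForm F (ι → F)) (hQ : Q.polarBilin.Nondegenerate)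
    {a : ℕ} (Q₁ : QuadraticForm F (Fin a → F)) (hQ₁ : Q₁.polarBilin.Nondegenerate) (ha : a < Fintype.card ι) :
    ∃ (b : ℕ) (Q₂ : QuadraticForm F (Fin b → F)) (E : (Fin a ⊕ Fin b → F) ≃ₗ[F] (ι → F)), Splits Q Q₁ Q₂ E := by
  classical
  obtain ⟨b, hb⟩ : ∃ b, Fintype.card ι = a + b + 1 := ⟨Fintype.card ι - a - 1, by omega⟩
  obtain ⟨v, g, hv, hg⟩ := exists_diag h2 Q hQ hb
  obtain ⟨w, g₁, hw, hg₁⟩ := exists_diag h2 Q₁ hQ₁ (Fintype.card_fin a)
  have hpw : ∏ i, w i ≠ 0 := Finset.prod_ne_zero_iff.2 fun i _ => hw i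
  have hpv : ∏ i, v i ≠ 0 := Finset.prod_ne_zero_iff.2 fun i _ => hv i
  let u : Fin (b + 1) → F := Fin.cons ((∏ i, v i) / ∏ i, w i) fun _ => 1
  let w'' : Fin (a + (b + 1)) → F := Fin.append w u
  let w' : Fin (a + b + 1) → F := w''
  have hw' : ∀ i, w' i ≠ 0 := fun i => by
    refine Fin.addCases (m := a) (n := b + 1) (fun j => ?_) (fun j => ?_) i
    · show w'' _ ≠ 0
      simpa [w''] using hw j
    · show w'' _ ≠ 0
      simp only [w'', Fin.append_right]
      refine Fin.cases ?_ (fun k => ?_) j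
      · exact div_ne_zero hpv hpw
      · simp [u]
  have hprod : ∏ i, w' i = ∏ i, v i := by
    show ∏ i : Fin (a + (b + 1)), Fin.append w u i = _
    rw [Fin.prod_univ_add]
    simp only [Fin.append_left, Fin.append_right, u, Fin.prod_univ_succ, Fin.cons_zero, Fin.cons_succ,
      Finset.prod_const_one, mul_one]
    field_simp
  obtain ⟨h, hh⟩ := (CfsgLib.QuadFin.diag_equiv_std h2 _ w' hw').symm.trans
    (hprod ▸ CfsgLib.QuadFin.diag_equiv_std h2 _ v hv)
  let Q₂ : QuadraticForm F (Fin (b + 1) → F) := QuadraticMap.weightedSumSquares F u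
  let E : (Fin a ⊕ Fin (b + 1) → F) ≃ₗ[F] (ι → F) :=
    ((LinearEquiv.sumArrowLequivProdArrow _ _ F F).trans ((g₁.symm.prodCongr (LinearEquiv.refl F _)).trans
      (LinearEquiv.sumArrowLequivProdArrow _ _ F F).symm)).trans
      ((LinearEquiv.funCongrLeft F F finSumFinEquiv.symm).trans (h.trans g))
  refine ⟨b + 1, Q₂, E, fun x => ?_⟩
  simp only [E, LinearEquiv.trans_apply]
  rw [hg]
  refine (hh _).trans ?_
  show ∑ i : Fin (a + (b + 1)), Fin.append w u i * _ = _
  rw [Fin.sum_univ_add]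
  simp only [Fin.append_left, Fin.append_right, LinearEquiv.funCongrLeft_apply, LinearMap.funLeft_apply,
    finSumFinEquiv_symm_apply_castAdd, finSumFinEquiv_symm_apply_natAdd, qSum]
  congr 1
  · rw [← g₁.apply_symm_apply (x ∘ Sum.inl), hg₁]
    rfl
  · simp [Q₂, QuadraticMap.weightedSumSquares_apply, LinearEquiv.sumArrowLequivProdArrow,
      Equiv.sumArrowEquivProdArrow, pow_two]

omit [Fintype F] in
/-- The first summand's embedding. -/
noncomputable def inlMap (E : (κ ⊕ μ → F) ≃ₗ[F] (ι → F)) : (κ → F) →ₗ[F] (ι → F) :=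
  (summand E).subtype.comp (summandEquiv E).toLinearMap

omit [Fintype F] in
theorem inlMap_apply (E : (κ ⊕ μ → F) ≃ₗ[F] (ι → F)) (u : κ → F) : inlMap E u = E (Sum.elim u 0) :=
  summandEquiv_coe E u

omit [Fintype F] in
/-- Images of non-degenerate forms. -/
theorem inClass_range {Q : QuadraticForm F (ι → F)} {Q₁ : QuadraticForm F (κ → F)}
    (hQ₁ : Q₁.polarBilin.Nondegenerate) {W₀ : Submodule F (ι → F)} (e₀ : (κ → F) ≃ₗ[F] W₀)
    (he₀ : ∀ u, Q (e₀ u : ι → F) = Q₁ u) (f : (κ → F) →ₗ[F] (ι → F)) (hf : ∀ u, Q (f u) = Q₁ u) :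
    InClass (⇑Q) W₀ (LinearMap.range f) := by
  have hpol : ∀ u v, polar ⇑Q (f u) (f v) = polar ⇑Q₁ u v := fun u v => by
    simp only [QuadraticMap.polar, ← map_add, hf]
  have hinj : Function.Injective f := by
    rw [injective_iff_map_eq_zero]
    intro u hu
    refine hQ₁.1 u fun v => ?_
    rw [polarBilin_apply_apply, ← hpol, hu, QuadraticMap.polar_zero_left]
  refine ⟨fun w hw hw0 => ?_, ⟨e₀.symm.trans (LinearEquiv.ofInjective f hinj), fun w => ?_⟩⟩
  · obtain ⟨u, rfl⟩ := hw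
    obtain ⟨v, hv⟩ : ∃ v, polar ⇑Q₁ u v ≠ 0 := by
      by_contra hno
      push Not at hno
      exact hw0 (by rw [hQ₁.1 u hno, map_zero])
    exact ⟨⟨f v, ⟨v, rfl⟩, by rwa [QuadraticMap.polar_comm, hpol]⟩, ⟨f v, ⟨v, rfl⟩, by rwa [hpol]⟩⟩
  · obtain ⟨u, rfl⟩ := e₀.surjective w
    simp only [LinearEquiv.trans_apply, LinearEquiv.symm_apply_apply, LinearEquiv.ofInjective_apply]
    rw [hf, he₀]

/-- The asymmetric splitting step. -/
theorem exists_pair_embedding (h2 : (2 : F) ≠ 0) {A B m : ℕ} (QA : QuadraticForm F (Fin A → F))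
    (hA : QA.polarBilin.Nondegenerate) (QB : QuadraticForm F (Fin B → F)) (hB : QB.polarBilin.Nondegenerate)
    (Q₁ : QuadraticForm F (Fin m → F)) (hQ₁ : Q₁.polarBilin.Nondegenerate) {a : ℕ} (ha0 : 0 < a) (haA : a < A)
    (ham : a ≤ m) (hmB : m - a ≤ B) :
    ∃ (α β : ℕ) (S : (Fin β ⊕ Fin α → F) ≃ₗ[F] (Fin m → F)) (fA : (Fin α → F) →ₗ[F] (Fin A → F))
      (fB : (Fin β → F) →ₗ[F] (Fin B → F)), ∀ v, QA (fA (v ∘ Sum.inr)) + QB (fB (v ∘ Sum.inl)) = Q₁ (S v) := by
  classical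
  obtain ⟨g, fB, hg, hfB⟩ : ∃ (g : QuadraticForm F (Fin (m - a) → F)) (fB : (Fin (m - a) → F) →ₗ[F] (Fin B → F)),
      g.polarBilin.Nondegenerate ∧ ∀ v, QB (fB v) = g v := by
    rcases eq_or_lt_of_le hmB with h | h
    · subst h
      exact ⟨QB, LinearMap.id, hB, fun _ => rfl⟩
    · obtain ⟨v, e, hv, he⟩ := exists_diag h2 QB hB (Fintype.card_fin B)
      let g : QuadraticForm F (Fin (m - a) → F) :=
        QuadraticMap.weightedSumSquares F fun i => v (Fin.castLE hmB i)
      have hg : g.polarBilin.Nondegenerate := by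
        have key : ∀ x, (∀ y, polar ⇑g x y = 0) → x = 0 := fun x hx => funext fun i => by
          have h' := hx (Pi.single i 1)
          simp only [g, QuadraticMap.polar, QuadraticMap.weightedSumSquares_apply, Pi.add_apply,
            ← Finset.sum_sub_distrib, smul_eq_mul] at h'
          rw [Finset.sum_eq_single i (fun k _ hk => by simp [hk]) (by simp)] at h'
          simp only [Pi.single_eq_same, mul_one] at h'
          have h'' : v (Fin.castLE hmB i) * 2 * x i = 0 := by linear_combination h'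
          exact (mul_eq_zero.1 h'').resolve_left (mul_ne_zero (hv _) h2)
        exact ⟨key, fun x hx => key x fun y => by rw [QuadraticMap.polar_comm]; exact hx y⟩
      obtain ⟨b, Q₂, E, hE⟩ := exists_splits_of_form h2 QB hB g hg (by rwa [Fintype.card_fin])
      exact ⟨g, inlMap E, hg, fun u => by rw [inlMap_apply, hE]; simp [qSum]⟩
  obtain ⟨α, h, S, hS⟩ := exists_splits_of_form h2 Q₁ hQ₁ g hg (by rw [Fintype.card_fin]; omega)
  have hα : (m - a) + α = m := by simpa using S.finrank_eq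
  obtain ⟨b, Q₂, E, hE⟩ := exists_splits_of_form h2 QA hA h (hS.nondeg_right hQ₁) (by rw [Fintype.card_fin]; omega)
  refine ⟨α, m - a, S, inlMap E, fB, fun v => ?_⟩
  rw [hS, hfB, inlMap_apply, hE]
  simp [qSum]
  ring

/-- An involutive isometry fixes a member of every class of proper non-degenerate subspaces. -/
theorem invol_fix (h2 : (2 : F) ≠ 0) {Q : QuadraticForm F (ι → F)} (hQ : Q.polarBilin.Nondegenerate)
    (hn : 3 ≤ Fintype.card ι) {W₀ : Submodule F (ι → F)} (hW₀ : Cfsg.Geo.IsNondegenerateOn (polar ⇑Q) W₀)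
    (hm0 : 0 < Module.finrank F W₀) (hmn : Module.finrank F W₀ < Fintype.card ι)
    {X : Matrix ι ι F} (hX : X * X = 1) (hXQ : ∀ v, Q (X *ᵥ v) = Q v) :
    ∃ W, InClass (⇑Q) W₀ W ∧ Inv X W := by
  classical
  obtain ⟨m, m', Q₁, Q₁', E₀, hE₀, hs₀, hmW, -⟩ := exists_splits hW₀
  have hQ₁ := hE₀.nondeg_left hQ
  have hXX : ∀ v, X *ᵥ (X *ᵥ v) = v := fun v => by rw [mulVec_mulVec, hX, one_mulVec]
  have hXp : ∀ u v, polar ⇑Q (X *ᵥ u) (X *ᵥ v) = polar ⇑Q u v := fun u v => by
    simp only [QuadraticMap.polar, ← mulVec_add, hXQ]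
  let P : Submodule F (ι → F) := LinearMap.ker (X.mulVecLin - LinearMap.id)
  have hmemP : ∀ v, v ∈ P ↔ X *ᵥ v = v := fun v => by simp [P, sub_eq_zero]
  have hPnd : Cfsg.Geo.IsNondegenerateOn (polar ⇑Q) P := by
    intro w hw hw0
    obtain ⟨v, hv⟩ : ∃ v, polar ⇑Q w v ≠ 0 := by
      by_contra hno
      push Not at hno
      exact hw0 (hQ.1 w hno)
    have hy : v + X *ᵥ v ∈ P := (hmemP _).2 (by rw [mulVec_add, hXX, add_comm])
    have hpy : polar ⇑Q w (v + X *ᵥ v) ≠ 0 := by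
      have e : polar ⇑Q w (X *ᵥ v) = polar ⇑Q w v := by
        conv_lhs => rw [← (hmemP w).1 hw]
        rw [hXp]
      rw [polar_add_right, e, ← two_mul]
      exact mul_ne_zero h2 hv
    exact ⟨⟨_, hy, by rwa [QuadraticMap.polar_comm]⟩, ⟨_, hy, hpy⟩⟩
  obtain ⟨A, B, QA, QB, E, hE, hsE, -, hAB⟩ := exists_splits hPnd
  have hfixA : ∀ u, X *ᵥ E (Sum.elim u 0) = E (Sum.elim u 0) := fun u =>
    (hmemP _).1 (hsE ▸ mem_summand.2 (by simp))
  have hnegB : ∀ w, X *ᵥ E (Sum.elim 0 w) = - E (Sum.elim 0 w) := fun w => by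
    set y := E (Sum.elim 0 w) with hy
    have hz : X *ᵥ y + y ∈ P := (hmemP _).2 (by rw [mulVec_add, hXX, add_comm])
    have hperp : ∀ u ∈ P, polar ⇑Q u (X *ᵥ y + y) = 0 := fun u hu => by
      have e : polar ⇑Q u (X *ᵥ y) = polar ⇑Q u y := by
        conv_lhs => rw [← (hmemP u).1 hu]
        rw [hXp]
      rw [polar_add_right, e]
      rw [← hsE, mem_summand] at hu
      rw [hy, ← E.apply_symm_apply u, hE.polar_apply, hu]
      simp [QuadraticMap.polar_zero_right, QuadraticMap.polar_zero_left]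
    refine eq_neg_of_add_eq_zero_left ?_
    by_contra h0
    obtain ⟨-, x, hx, hne⟩ := hPnd _ hz h0
    exact hne (by rw [QuadraticMap.polar_comm]; exact hperp x hx)
  have hQA := hE.nondeg_left hQ
  have hQB := hE.nondeg_right hQ
  -- assemble
  obtain ⟨α, β, S, fA, fB, hf⟩ : ∃ (α β : ℕ) (S : (Fin β ⊕ Fin α → F) ≃ₗ[F] (Fin m → F))
      (fA : (Fin α → F) →ₗ[F] (Fin A → F)) (fB : (Fin β → F) →ₗ[F] (Fin B → F)),
      ∀ v, QA (fA (v ∘ Sum.inr)) + QB (fB (v ∘ Sum.inl)) = Q₁ (S v) := by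
    rcases le_or_gt 2 A with hA2 | hA2
    · exact exists_pair_embedding h2 QA hQA QB hQB Q₁ hQ₁ (a := max 1 (m - B)) (by omega) (by omega) (by omega)
        (by omega)
    · obtain ⟨α, β, S, fB, fA, hf⟩ := exists_pair_embedding h2 QB hQB QA hQA Q₁ hQ₁ (a := max 1 (m - A))
        (by omega) (by omega) (by omega) (by omega)
      refine ⟨β, α, (LinearEquiv.funCongrLeft F F (Equiv.sumComm _ _)).trans S, fA, fB, fun v => ?_⟩
      rw [LinearEquiv.trans_apply, ← hf, add_comm]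
      rfl
  let f : (Fin m → F) →ₗ[F] (ι → F) :=
    E.toLinearMap.comp ((LinearEquiv.sumArrowLequivProdArrow _ _ F F).symm.toLinearMap.comp
      ((fA.comp (LinearMap.funLeft F F Sum.inr)).prod (fB.comp (LinearMap.funLeft F F Sum.inl)) |>.comp
        S.symm.toLinearMap))
  have hfv : ∀ v, f (S v) = E (Sum.elim (fA (v ∘ Sum.inr)) (fB (v ∘ Sum.inl))) := fun v => by
    simp only [f, LinearMap.comp_apply, LinearEquiv.coe_toLinearMap, LinearEquiv.symm_apply_apply,
      LinearMap.prod_apply, Function.prod]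
    rfl
  refine ⟨LinearMap.range f, ?_, ?_⟩
  · refine inClass_range hQ₁ ((summandEquiv E₀).trans (LinearEquiv.ofEq _ _ hs₀)) (fun u => ?_) f fun u => ?_
    · exact hE₀.apply_summand u
    · obtain ⟨v, rfl⟩ := S.surjective u
      rw [hfv, hE, ← hf]
      simp [qSum]
  · rintro _ ⟨w, ⟨u, rfl⟩, rfl⟩
    obtain ⟨v, rfl⟩ := S.surjective u
    refine ⟨S (Sum.elim (-(v ∘ Sum.inl)) (v ∘ Sum.inr)), ?_⟩
    rw [hfv, hfv, Matrix.toLin'_apply]
    have split2 : ∀ (s : Fin A → F) (t : Fin B → F), Sum.elim s t = Sum.elim s (0 : Fin B → F) + Sum.elim (0 : Fin A → F) t := fun s t =>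
      funext fun j => by rcases j with j | j <;> simp
    rw [split2 (fA (v ∘ Sum.inr)) (fB (v ∘ Sum.inl)), map_add, mulVec_add, hfixA, hnegB]
    simp only [Sum.elim_comp_inl, Sum.elim_comp_inr]
    rw [← map_neg E, ← map_add E]
    congr 1
    funext j
    rcases j with j | j <;> simp

end CfsgLib.OrthFix
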