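import Cfsg.Agent.Lib.OrthFix.Count
import Cfsg.Agent.Lib.OrthFix.Omega
import Cfsg.Agent.Lib.OrthFix.Invol

/-!
From the statements about `Ω` and its classes of subspaces to the criterion in terms of blocks.
-/

set_option autoImplicit false
set_option linter.unusedSectionVars false

namespace CfsgLib.OrthFix

open Matrix QuadraticMap CfsgLib.PrimeClasses CfsgLib.QuadType

variable {F : Type*} [Field F] [Fintype F] {ι κ μ : Type} [Fintype ι] [DecidableEq ι]
  [Fintype κ] [DecidableEq κ] [Fintype μ] [DecidableEq μ]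

/-- membership in `Ω` gives an isometry -/
theorem isometry_of_mem_omegaGL {Q : (ι → F) → F} {x : GL ι F} (hx : x ∈ Cfsg.Geo.omegaGL Q) :
    x ∈ Cfsg.isometryGroup F Q := by
  obtain ⟨y, -, rfl⟩ := hx
  exact y.2

omit [Fintype F] in
theorem inv_smul {X : Matrix ι ι F} {z : F} (hz : z ≠ 0) (W : Submodule F (ι → F)) :
    Inv (z • X) W ↔ Inv X W := by
  constructor <;> rintro h _ ⟨w, hw, rfl⟩
  · have h1 := W.smul_mem z⁻¹ (apply_invariant h (show w ∈ W from hw))
    rwa [smul_mulVec, smul_smul, inv_mul_cancel₀ hz, one_smul, ← Matrix.toLin'_apply] at h1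
  · rw [Matrix.toLin'_apply, smul_mulVec]
    exact W.smul_mem z (apply_invariant h (show w ∈ W from hw))

omit [Fintype F] in
theorem exists_value_ne_zero {Q : QuadraticForm F (ι → F)} (hQ : Q.polarBilin.Nondegenerate)
    (hι : 0 < Fintype.card ι) : ∃ v, Q v ≠ 0 := by
  by_contra hno
  push Not at hno
  have : Nonempty ι := Fintype.card_pos_iff.1 hι
  have h := hQ.1 (1 : ι → F) fun v => by simp [QuadraticMap.polar, hno]
  exact one_ne_zero (congrFun h (Classical.arbitrary ι))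

omit [Fintype F] in
theorem scalar_sq_eq_one {Q : QuadraticForm F (ι → F)} (hQ : Q.polarBilin.Nondegenerate)
    (hι : 0 < Fintype.card ι) {z : F} (h : ∀ v, Q (z • v) = Q v) : z * z = 1 := by
  obtain ⟨v, hv⟩ := exists_value_ne_zero hQ hι
  have := h v
  rw [QuadraticMap.map_smul, smul_eq_mul] at this
  exact mul_right_cancel₀ hv (by rw [this, one_mul])

variable {r : ℕ} [hr : Fact r.Prime]

/-- Elements of order `r` of the simple group, through matrices. -/
def ProjFix (r : ℕ) (Q : (ι → F) → F) (C : Submodule F (ι → F) → Prop) : Prop :=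
  ∀ x : GL ι F, x ∈ Cfsg.Geo.omegaGL Q →
    (∃ z : F, ((x ^ r : GL ι F) : Matrix ι ι F) = z • (1 : Matrix ι ι F)) →
    (∀ z : F, (x : Matrix ι ι F) ≠ z • (1 : Matrix ι ι F)) →
    ∃ W : Submodule F (ι → F), C W ∧ W.map (Matrix.toLin' (x : Matrix ι ι F)) ≤ W

/-- Elements of order `r` of `Ω`. -/
def OrderFix (r : ℕ) (Q : (ι → F) → F) (C : Submodule F (ι → F) → Prop) : Prop :=
  ∀ x : GL ι F, x ∈ Cfsg.Geo.omegaGL Q → orderOf x = r →
    ∃ W : Submodule F (ι → F), C W ∧ W.map (Matrix.toLin' (x : Matrix ι ι F)) ≤ W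

/-- All isometries of order dividing `r` fix a member. -/
def MatFix (r : ℕ) (Q : (ι → F) → F) (C : Submodule F (ι → F) → Prop) : Prop :=
  ∀ X : Matrix ι ι F, X ^ r = 1 → X ≠ 1 → (∀ v, Q (X *ᵥ v) = Q v) → ∃ W, C W ∧ Inv X W

variable {Q : QuadraticForm F (ι → F)} {C : Submodule F (ι → F) → Prop}

/-- The unit of a matrix with `X ^ r = 1`. -/
theorem exists_unit {X : Matrix ι ι F} (hX : X ^ r = 1) (hXQ : ∀ v, Q (X *ᵥ v) = Q v) :
    ∃ x : GL ι F, (x : Matrix ι ι F) = X ∧ x ∈ Cfsg.isometryGroup F (⇑Q) ∧ x ^ r = 1 := by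
  obtain ⟨x, rfl⟩ : ∃ x : GL ι F, (x : Matrix ι ι F) = X :=
    ⟨(IsUnit.of_pow_eq_one hX hr.out.ne_zero).unit, IsUnit.unit_spec _⟩
  exact ⟨x, rfl, fun u _ => hXQ u, Units.ext (by simpa using hX)⟩

theorem projFix_iff (hQ : Q.polarBilin.Nondegenerate) (hn : 4 < Fintype.card ι) (hr2 : r ≠ 2) :
    ProjFix r (⇑Q) C ↔ MatFix r (⇑Q) C := by
  have hodd : Odd r := hr.out.odd_of_ne_two hr2
  constructor
  · intro h X hX hX1 hXQ
    obtain ⟨x, rfl, hxQ, hx⟩ := exists_unit hX hXQ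
    refine h x (mem_omegaGL_of_pow_odd hQ (Or.inl (by omega)) hxQ hodd hx) ⟨1, by rw [hx]; simp⟩ fun z hz => hX1 ?_
    have hz1 : z * z = 1 := scalar_sq_eq_one hQ (by omega) fun v => by
      have := hXQ v
      rwa [hz, smul_mulVec, one_mulVec] at this
    have : Nonempty ι := Fintype.card_pos_iff.1 (by omega)
    rw [hz, smul_pow, one_pow] at hX
    have hzr : z ^ r = 1 := by
      have := congrFun (congrFun hX (Classical.arbitrary ι)) (Classical.arbitrary ι)
      simpa using this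
    obtain ⟨t, ht⟩ := hodd
    rw [ht, pow_succ, pow_mul, pow_two, hz1, one_pow, one_mul] at hzr
    rw [hz, hzr, one_smul]
  · intro h x hx ⟨z, hz⟩ hns
    have hxQ := isometry_of_mem_omegaGL hx
    have hz1 : z * z = 1 := scalar_sq_eq_one hQ (by omega) fun v => by
      have := (pow_mem hxQ r : x ^ r ∈ Cfsg.isometryGroup F (⇑Q)) v v
      simpa [hz, smul_mulVec] using this
    have hz0 : z ≠ 0 := left_ne_zero_of_mul_eq_one hz1
    obtain ⟨W, hW, hWi⟩ := h (z • (x : Matrix ι ι F)) (by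
        rw [smul_pow, ← Units.val_pow_eq_pow_val, hz, smul_smul]
        obtain ⟨t, ht⟩ := hodd
        rw [ht, pow_succ, pow_mul, pow_two, hz1, one_pow, one_mul, hz1, one_smul])
      (fun e => hns z⁻¹ (by rw [← e, smul_smul, inv_mul_cancel₀ hz0, one_smul])) (fun v => by
        rw [smul_mulVec, QuadraticMap.map_smul, hz1, one_smul]
        exact hxQ v v)
    exact ⟨W, hW, (inv_smul hz0 W).1 hWi⟩

theorem orderFix_iff (hQ : Q.polarBilin.Nondegenerate) (hn : 4 < Fintype.card ι) (hr2 : r ≠ 2) :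
    OrderFix r (⇑Q) C ↔ MatFix r (⇑Q) C := by
  constructor
  · intro h X hX hX1 hXQ
    obtain ⟨x, rfl, hxQ, hx⟩ := exists_unit hX hXQ
    exact h x (mem_omegaGL_of_pow_odd hQ (Or.inl (by omega)) hxQ (hr.out.odd_of_ne_two hr2) hx)
      (orderOf_eq_prime hx fun e => hX1 (by rw [e]; rfl))
  · intro h x hx hord
    refine h (x : Matrix ι ι F) (by rw [← Units.val_pow_eq_pow_val, ← hord, pow_orderOf_eq_one]; rfl)
      (fun e => hr.out.one_lt.ne' ?_) fun v => isometry_of_mem_omegaGL hx v v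
    rw [← hord, orderOf_eq_one_iff]
    exact Units.ext e

/-- Every involution fixes. -/
theorem orderFix_two (h2 : (2 : F) ≠ 0) (hQ : Q.polarBilin.Nondegenerate) (hn : 3 ≤ Fintype.card ι)
    {W₀ : Submodule F (ι → F)} (hW₀ : Cfsg.Geo.IsNondegenerateOn (polar ⇑Q) W₀)
    (hm0 : 0 < Module.finrank F W₀) (hmn : Module.finrank F W₀ < Fintype.card ι)
    (hC : ∀ W, C W ↔ InClass (⇑Q) W₀ W) : OrderFix 2 (⇑Q) C := by
  intro x hx hord
  obtain ⟨W, hW, hWi⟩ := invol_fix h2 hQ hn hW₀ hm0 hmn (X := (x : Matrix ι ι F))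
    (by rw [← pow_two, ← Units.val_pow_eq_pow_val, ← hord, pow_orderOf_eq_one]; rfl)
    fun v => isometry_of_mem_omegaGL hx v v
  exact ⟨W, (hC W).2 hW, hWi⟩

/-- The criterion with the class given by a predicate. -/
theorem matFix_iff (hr2 : r ≠ 2) (hrK : (r : F) ≠ 0) (hQ : Q.polarBilin.Nondegenerate)
    {Q₁ : QuadraticForm F (κ → F)} {Q₂ : QuadraticForm F (μ → F)} {E : (κ ⊕ μ → F) ≃ₗ[F] (ι → F)}
    (hE : Splits Q Q₁ Q₂ E) (hC : ∀ W, C W ↔ InClass (⇑Q) (summand E) W)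
    (hdvd : r ∣ Nat.card {W : Submodule F (ι → F) // C W}) {P P₁ P₂ : Prop}
    (hP : IsPlus (⇑Q) (Fintype.card ι / 2) ↔ P)
    (hP₁ : IsPlus (⇑Q₁) (Fintype.card κ / 2) ↔ P₁) (hP₂ : IsPlus (⇑Q₂) (Fintype.card μ / 2) ↔ P₂)
    {n a b : ℕ} (hn : Fintype.card ι = n) (ha : Fintype.card κ = a) (hb : Fintype.card μ = b)
    (ha0 : 0 < a) (hb0 : 0 < b) :
    (MatFix r (⇑Q) C ↔ top n P (isz hrK) ≤ top a P₁ (isz hrK) + top b P₂ (isz hrK)) ∧
      n = a + b ∧ top a P₁ (isz hrK) ≠ top n P (isz hrK) ∧ top b P₂ (isz hrK) ≠ top n P (isz hrK) := by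
  have hab : n = a + b := by
    have := E.finrank_eq
    simp [hn, ha, hb] at this
    omega
  rw [← propext hP]
  subst hn ha hb
  have hC' : C = InClass (⇑Q) (summand E) := funext fun W => propext (hC W)
  subst hC'
  exact ⟨all_fix_iff hr2 hrK hQ hE hP₁ hP₂ (by omega) ha0 hb0, hab,
    top_ne_of_dvd hrK hr2 hE hQ hP₁ hP₂ (by omega) ha0 hb0 hdvd⟩

theorem isometric_symm {Q : (ι → F) → F} {W W' : Submodule F (ι → F)}
    (h : Cfsg.Geo.AreIsometricFor Q W W') : Cfsg.Geo.AreIsometricFor Q W' W := by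
  obtain ⟨e, he⟩ := h
  exact ⟨e.symm, fun w => by rw [← he, e.apply_symm_apply]⟩

/-- Classes of even-dimensional subspaces are given by the type. -/
theorem inClass_iff_type (hQ : Q.polarBilin.Nondegenerate) {W₀ : Submodule F (ι → F)}
    (hW₀ : Cfsg.Geo.IsNondegenerateOn (polar ⇑Q) W₀) {k : ℕ} (hk : Module.finrank F W₀ = 2 * k)
    (W : Submodule F (ι → F)) :
    InClass (⇑Q) W₀ W ↔ Module.finrank F W = 2 * k ∧ Cfsg.Geo.IsNondegenerateOn (polar ⇑Q) W ∧
      (Cfsg.Geo.IsPlusTypeOn (⇑Q) W ↔ Cfsg.Geo.IsPlusTypeOn (⇑Q) W₀) := by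
  obtain ⟨a, b, Q₁, Q₂, E, hE, rfl, ha, -⟩ := exists_splits hW₀
  rw [hk] at ha
  constructor
  · rintro ⟨hnd, e, he⟩
    refine ⟨by rw [← e.finrank_eq, hk], hnd, ?_⟩
    rw [hE.isPlusTypeOn_iff (k := k) (by simpa using ha),
      isPlusTypeOn_iff_of_coords ((summandEquiv E).trans e) (fun u => by
        rw [LinearEquiv.trans_apply, he, hE.apply_summand]) (k := k) (by simpa using ha)]
  · rintro ⟨hdim, hnd, htype⟩
    refine ⟨hnd, ?_⟩
    obtain ⟨a', b', Q₁', Q₂', E', hE', rfl, ha', -⟩ := exists_splits hnd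
    rw [hdim, ← ha] at ha'
    subst ha'
    rw [hE.isPlusTypeOn_iff (k := k) (by simpa using ha), hE'.isPlusTypeOn_iff (k := k) (by simpa using ha)] at htype
    obtain ⟨T, hT⟩ := exists_isometry Q₁' Q₁ (hE'.nondeg_left hQ) (hE.nondeg_left hQ) (k := k) (by simpa using ha)
      htype
    refine ⟨(summandEquiv E).symm.trans ((Matrix.toLin'OfInv T.inv_mul T.mul_inv).trans (summandEquiv E')),
      fun w => ?_⟩
    obtain ⟨u, rfl⟩ := (summandEquiv E).surjective w
    simp only [LinearEquiv.trans_apply, LinearEquiv.symm_apply_apply]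
    rw [hE'.apply_summand, hE.apply_summand, ← hT u]
    rfl

end CfsgLib.OrthFix
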