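import Cfsg.Agent.Lib.OrthFix.Driver

/-!
Involutive isometries in characteristic two: which types of invariant non-degenerate subspaces occur.
-/

set_option autoImplicit false
set_option linter.unusedSectionVars false

namespace CfsgLib.OrthFix

open Matrix QuadraticMap CfsgLib.PrimeClasses CfsgLib.QuadType
open Cfsg.Geo (IsNondegenerateOn IsPlusTypeOn)

variable {F : Type*} [Field F] [Fintype F] {ι : Type} [Fintype ι] [DecidableEq ι] {Q : QuadraticForm F (ι → F)}

omit [Fintype F] in
theorem disjoint_of_orth {U W : Submodule F (ι → F)} (hU : IsNondegenerateOn (polar ⇑Q) U)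
    (ho : ∀ u ∈ U, ∀ w ∈ W, polar ⇑Q u w = 0) : Disjoint U W := by
  refine Submodule.disjoint_def.2 fun v hv hv' => ?_
  by_contra h0
  obtain ⟨-, x, hx, hne⟩ := hU v hv h0
  exact hne (by rw [QuadraticMap.polar_comm]; exact ho x hx v hv')

/-- The type of an orthogonal sum of subspaces. -/
theorem sup_orth {U W : Submodule F (ι → F)} (hU : IsNondegenerateOn (polar ⇑Q) U)
    (hW : IsNondegenerateOn (polar ⇑Q) W) (ho : ∀ u ∈ U, ∀ w ∈ W, polar ⇑Q u w = 0) {a b : ℕ}
    (ha : Module.finrank F U = 2 * a) (hb : Module.finrank F W = 2 * b) :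
    IsNondegenerateOn (polar ⇑Q) (U ⊔ W) ∧ Module.finrank F (U ⊔ W : Submodule F (ι → F)) = 2 * (a + b) ∧
      (IsPlusTypeOn (⇑Q) (U ⊔ W) ↔ (IsPlusTypeOn (⇑Q) U ↔ IsPlusTypeOn (⇑Q) W)) := by
  classical
  have hdis := disjoint_of_orth hU ho
  have hfin : Module.finrank F (U ⊔ W : Submodule F (ι → F)) = 2 * (a + b) := by
    have h := Submodule.finrank_sup_add_finrank_inf_eq U W
    rw [hdis.eq_bot, finrank_bot, ha, hb] at h
    omega
  have hnd : IsNondegenerateOn (polar ⇑Q) (U ⊔ W) := by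
    intro v hv hv0
    obtain ⟨u, hu, w, hw, rfl⟩ := Submodule.mem_sup.1 hv
    obtain ⟨x, hx, hne⟩ : ∃ x ∈ U ⊔ W, polar ⇑Q (u + w) x ≠ 0 := by
      by_contra hno
      push Not at hno
      have hu0 : u = 0 := by
        by_contra h
        obtain ⟨-, x, hx, hne⟩ := hU u hu h
        refine hne ?_
        have := hno x (Submodule.mem_sup_left hx)
        rwa [polar_add_left, QuadraticMap.polar_comm (f := ⇑Q) w x, ho x hx w hw, add_zero] at this
      have hw0 : w = 0 := by
        by_contra h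
        obtain ⟨-, x, hx, hne⟩ := hW w hw h
        refine hne ?_
        have := hno x (Submodule.mem_sup_right hx)
        rwa [polar_add_left, ho u hu x hx, zero_add] at this
      exact hv0 (by rw [hu0, hw0, add_zero])
    exact ⟨⟨x, hx, by rwa [QuadraticMap.polar_comm]⟩, ⟨x, hx, hne⟩⟩
  refine ⟨hnd, hfin, ?_⟩
  -- coordinates on both
  let eU : (Fin (2 * a) → F) ≃ₗ[F] U := (Module.finBasisOfFinrankEq F U ha).equivFun.symm
  let eW : (Fin (2 * b) → F) ≃ₗ[F] W := (Module.finBasisOfFinrankEq F W hb).equivFun.symm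
  let ψ : (U × W) →ₗ[F] (U ⊔ W : Submodule F (ι → F)) :=
    (Submodule.inclusion le_sup_left).coprod (Submodule.inclusion le_sup_right)
  have hψ : Function.Bijective ψ := by
    constructor
    · rintro ⟨u, w⟩ ⟨u', w'⟩ h
      have h' : (u : ι → F) + w = u' + w' := congrArg Subtype.val h
      have h'' : (u : ι → F) - u' = w' - w := by linear_combination (norm := module) h'
      have h0 := Submodule.disjoint_def.1 hdis _ (U.sub_mem u.2 u'.2) (h'' ▸ W.sub_mem w'.2 w.2)
      refine Prod.ext (Subtype.ext (sub_eq_zero.1 h0)) (Subtype.ext ?_)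
      rw [h0, eq_comm, sub_eq_zero] at h''
      exact h''.symm
    · rintro ⟨v, hv⟩
      obtain ⟨u, hu, w, hw, rfl⟩ := Submodule.mem_sup.1 hv
      exact ⟨(⟨u, hu⟩, ⟨w, hw⟩), rfl⟩
  let e : (Fin (2 * a) ⊕ Fin (2 * b) → F) ≃ₗ[F] (U ⊔ W : Submodule F (ι → F)) :=
    (LinearEquiv.sumArrowLequivProdArrow _ _ F F).trans ((eU.prodCongr eW).trans (LinearEquiv.ofBijective ψ hψ))
  let QU := Q.comp (U.subtype.comp eU.toLinearMap)
  let QW := Q.comp (W.subtype.comp eW.toLinearMap)
  let Qs := Q.comp ((U ⊔ W).subtype.comp e.toLinearMap)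
  have he : ∀ v, (e v : ι → F) = (eU (v ∘ Sum.inl) : ι → F) + (eW (v ∘ Sum.inr) : ι → F) := fun v => rfl
  have hs : Splits Qs QU QW (LinearEquiv.refl F _) := fun v => by
    show Q (e v : ι → F) = _
    rw [he, QuadraticMap.map_add Q, ho _ (eU _).2 _ (eW _).2, add_zero]
    rfl
  have hQs : Qs.polarBilin.Nondegenerate := by
    have key : ∀ v, (∀ v', polar ⇑Qs v v' = 0) → v = 0 := fun v hv => by
      by_contra h0
      obtain ⟨-, x, hx, hne⟩ := hnd (e v : ι → F) (e v).2 (fun h => h0 (e.map_eq_zero_iff.1 (Subtype.ext h)))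
      obtain ⟨v', hv'⟩ := e.surjective ⟨x, hx⟩
      refine hne ?_
      rw [show x = (e v' : ι → F) by rw [hv'], ← hv v']
      simp [Qs, QuadraticMap.polar, map_add]
    exact ⟨key, fun v hv => key v fun v' => by rw [QuadraticMap.polar_comm]; exact hv v'⟩
  rw [isPlusTypeOn_iff_of_coords e (Q₁ := Qs) (fun _ => rfl) (k := a + b) (by simp; omega),
    isPlusTypeOn_iff_of_coords eU (Q₁ := QU) (fun _ => rfl) (k := a) (by simp),
    isPlusTypeOn_iff_of_coords eW (Q₁ := QW) (fun _ => rfl) (k := b) (by simp)]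
  exact hs.isPlus_iff hQs (by simp) (by simp)

omit [Fintype F] in
theorem isPlusTypeOn_bot : IsPlusTypeOn (⇑Q) (⊥ : Submodule F (ι → F)) :=
  ⟨⊥, le_rfl, fun u hu => by rw [(Submodule.mem_bot F).1 hu, map_zero], by simp⟩

omit [Fintype F] in
/-- The orthogonal complement inside a non-degenerate subspace. -/
theorem exists_complement_in {P M : Submodule F (ι → F)} (hP : IsNondegenerateOn (polar ⇑Q) P)
    (hM : IsNondegenerateOn (polar ⇑Q) M) (hPM : P ≤ M) {X : Matrix ι ι F} (hX : X * X = 1)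
    (hXQ : ∀ v, Q (X *ᵥ v) = Q v) (hPX : Inv X P) (hMX : Inv X M) :
    ∃ M' : Submodule F (ι → F), M' ≤ M ∧ IsNondegenerateOn (polar ⇑Q) M' ∧ Inv X M' ∧
      (∀ p ∈ P, ∀ u ∈ M', polar ⇑Q p u = 0) ∧ P ⊔ M' = M ∧
      Module.finrank F P + Module.finrank F M' = Module.finrank F M := by
  have hc := isCompl_orthogonal hP
  set O := LinearMap.BilinForm.orthogonal Q.polarBilin P
  have ho : ∀ p ∈ P, ∀ u ∈ M ⊓ O, polar ⇑Q p u = 0 := fun p hp u hu => hu.2 p hp
  have hdec : ∀ y ∈ M, ∃ p ∈ P, ∃ y' ∈ M ⊓ O, y = p + y' := fun y hy => by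
    obtain ⟨p, hp, y', hy', rfl⟩ := Submodule.mem_sup.1 (show y ∈ P ⊔ O by rw [hc.sup_eq_top]; trivial)
    refine ⟨p, hp, y', ⟨?_, hy'⟩, rfl⟩
    simpa using M.sub_mem hy (hPM hp)
  have hsup : P ⊔ (M ⊓ O) = M := le_antisymm (sup_le hPM inf_le_left) fun y hy => by
    obtain ⟨p, hp, y', hy', rfl⟩ := hdec y hy
    exact Submodule.mem_sup.2 ⟨p, hp, y', hy', rfl⟩
  refine ⟨M ⊓ O, inf_le_left, fun u hu hu0 => ?_, ?_, ho, hsup, ?_⟩
  · obtain ⟨-, y, hy, hne⟩ := hM u hu.1 hu0
    obtain ⟨p, hp, y', hy', rfl⟩ := hdec y hy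
    rw [polar_add_right, QuadraticMap.polar_comm (f := ⇑Q) u p, ho p hp u hu, zero_add] at hne
    exact ⟨⟨y', hy', by rwa [QuadraticMap.polar_comm]⟩, ⟨y', hy', hne⟩⟩
  · rintro _ ⟨u, hu, rfl⟩
    rw [Matrix.toLin'_apply]
    refine ⟨apply_invariant hMX hu.1, fun p hp => ?_⟩
    show polar ⇑Q p (X *ᵥ u) = 0
    have e : polar ⇑Q (X *ᵥ (X *ᵥ p)) (X *ᵥ u) = polar ⇑Q (X *ᵥ p) u := by
      simp only [QuadraticMap.polar, ← mulVec_add, hXQ]
    rw [mulVec_mulVec, hX, one_mulVec] at e
    rw [e]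
    exact ho _ (apply_invariant hPX hp) u hu
  · have h := Submodule.finrank_sup_add_finrank_inf_eq P (M ⊓ O)
    rw [hsup, (disjoint_of_orth hP ho).eq_bot, finrank_bot] at h
    omega

omit [Fintype F] in
/-- An invariant non-degenerate subspace contains an invariant plane or an invariant 4-space of plus type. -/
theorem exists_atom (h2 : (2 : F) = 0) {M : Submodule F (ι → F)} (hM : IsNondegenerateOn (polar ⇑Q) M)
    (hM0 : M ≠ ⊥) {X : Matrix ι ι F} (hX : X * X = 1) (hXQ : ∀ v, Q (X *ᵥ v) = Q v) (hMX : Inv X M) :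
    ∃ P ≤ M, IsNondegenerateOn (polar ⇑Q) P ∧ Inv X P ∧
      (Module.finrank F P = 2 ∨ (Module.finrank F P = 4 ∧ IsPlusTypeOn (⇑Q) P)) := by
  have hself : ∀ u, polar ⇑Q u u = 0 := fun u => by rw [CfsgLib.Orth.polar_self', h2, zero_mul]
  have hXX : ∀ u, X *ᵥ (X *ᵥ u) = u := fun u => by rw [mulVec_mulVec, hX, one_mulVec]
  have hXp : ∀ u v, polar ⇑Q (X *ᵥ u) (X *ᵥ v) = polar ⇑Q u v := fun u v => by
    simp only [QuadraticMap.polar, ← mulVec_add, hXQ]
  have hsym : ∀ u v, polar ⇑Q (X *ᵥ u) v = polar ⇑Q u (X *ᵥ v) := fun u v => by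
    rw [← hXp (X *ᵥ u) v, hXX]
  have htwo : ∀ x : ι → F, x + x = 0 := fun x => by rw [← two_smul F, h2, zero_smul]
  -- a hyperbolic pair spans a non-degenerate plane
  have plane : ∀ u w, u ∈ M → w ∈ M → polar ⇑Q u w ≠ 0 → X *ᵥ u ∈ Submodule.span F (Set.range ![u, w]) →
      X *ᵥ w ∈ Submodule.span F (Set.range ![u, w]) →
      ∃ P ≤ M, IsNondegenerateOn (polar ⇑Q) P ∧ Inv X P ∧
        (Module.finrank F P = 2 ∨ (Module.finrank F P = 4 ∧ IsPlusTypeOn (⇑Q) P)) := by
    intro u w hu hw hne hXu hXw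
    have hco : ∀ a b : F, polar ⇑Q (a • u + b • w) u = b * polar ⇑Q u w ∧
        polar ⇑Q (a • u + b • w) w = a * polar ⇑Q u w := fun a b => by
      constructor <;> simp [polar_add_left, polar_smul_left, hself, QuadraticMap.polar_comm (f := ⇑Q) w u]
    refine ⟨Submodule.span F (Set.range ![u, w]), ?_, fun y hy hy0 => ?_, ?_, Or.inl ?_⟩
    · rw [Submodule.span_le]
      rintro _ ⟨i, rfl⟩
      fin_cases i <;> assumption
    · obtain ⟨c, rfl⟩ := (Submodule.mem_span_range_iff_exists_fun F).1 hy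
      simp only [Fin.sum_univ_two, Matrix.cons_val_zero, Matrix.cons_val_one] at hy0 ⊢
      obtain ⟨x, hx, hx'⟩ : ∃ x ∈ Submodule.span F (Set.range ![u, w]), polar ⇑Q (c 0 • u + c 1 • w) x ≠ 0 := by
        by_contra hno
        push Not at hno
        have e0 := hno u (Submodule.subset_span ⟨0, rfl⟩)
        have e1 := hno w (Submodule.subset_span ⟨1, rfl⟩)
        rw [(hco _ _).1, mul_eq_zero] at e0
        rw [(hco _ _).2, mul_eq_zero] at e1
        exact hy0 (by rw [e0.resolve_right hne, e1.resolve_right hne]; simp)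
      exact ⟨⟨x, hx, by rwa [QuadraticMap.polar_comm]⟩, ⟨x, hx, hx'⟩⟩
    · rw [Inv, Submodule.map_span, Submodule.span_le]
      rintro _ ⟨_, ⟨i, rfl⟩, rfl⟩
      rw [Matrix.toLin'_apply, SetLike.mem_coe]
      fin_cases i <;> assumption
    · rw [finrank_span_eq_card, Fintype.card_fin]
      rw [Fintype.linearIndependent_iff]
      intro g hg
      simp only [Fin.sum_univ_two, Matrix.cons_val_zero, Matrix.cons_val_one] at hg
      have e := hco (g 0) (g 1)
      rw [hg, QuadraticMap.polar_zero_left, QuadraticMap.polar_zero_left] at e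
      intro i
      fin_cases i
      · exact (mul_eq_zero.1 e.2.symm).resolve_right hne
      · exact (mul_eq_zero.1 e.1.symm).resolve_right hne
  by_cases h1 : ∃ u ∈ M, polar ⇑Q u (X *ᵥ u) ≠ 0
  · obtain ⟨u, hu, hne⟩ := h1
    refine plane u (X *ᵥ u) hu (apply_invariant hMX hu) hne (Submodule.subset_span ⟨1, rfl⟩) ?_
    rw [hXX]
    exact Submodule.subset_span ⟨0, rfl⟩
  push Not at h1
  have hNself : ∀ u ∈ M, polar ⇑Q u (X *ᵥ u + u) = 0 := fun u hu => by rw [polar_add_right, h1 u hu, hself, add_zero]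
  have hNQ : ∀ u ∈ M, Q (X *ᵥ u + u) = 0 := fun u hu => by
    rw [QuadraticMap.map_add Q, hXQ, QuadraticMap.polar_comm, h1 u hu, add_zero, ← two_mul, h2, zero_mul]
  have hNN : ∀ u v, polar ⇑Q (X *ᵥ u + u) (X *ᵥ v + v) = 0 := fun u v => by
    simp only [polar_add_left, polar_add_right, hXp, hsym]
    linear_combination (polar ⇑Q u v + polar ⇑Q u (X *ᵥ v)) * h2
  by_cases h3 : ∃ u ∈ M, ∃ v ∈ M, polar ⇑Q u (X *ᵥ v + v) ≠ 0
  · obtain ⟨u, hu, v, hv, hne⟩ := h3
    set u' := X *ᵥ u + u with hu'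
    set v' := X *ᵥ v + v with hv'
    set c := polar ⇑Q u v'
    have hvu : polar ⇑Q v u' = c := by
      show polar ⇑Q v (X *ᵥ u + u) = polar ⇑Q u (X *ᵥ v + v)
      rw [polar_add_right, polar_add_right, ← hsym, QuadraticMap.polar_comm, QuadraticMap.polar_comm (f := ⇑Q) v u]
    let B : Fin 4 → ι → F := ![u, v, u', v']
    have hco : ∀ g : Fin 4 → F, polar ⇑Q (∑ i, g i • B i) v' = g 0 * c ∧ polar ⇑Q (∑ i, g i • B i) u' = g 1 * c ∧
        polar ⇑Q (∑ i, g i • B i) u = g 1 * polar ⇑Q v u + g 3 * c ∧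
        polar ⇑Q (∑ i, g i • B i) v = g 0 * polar ⇑Q u v + g 2 * c := fun g => by
      have e1 : polar ⇑Q u u' = 0 := hNself u hu
      have e2 : polar ⇑Q v v' = 0 := hNself v hv
      have e3 : polar ⇑Q u' v' = 0 := hNN u v
      refine ⟨?_, ?_, ?_, ?_⟩ <;>
        simp [B, Fin.sum_univ_four, polar_add_left, polar_smul_left, hself, e1, e2, e3, hvu, c,
          QuadraticMap.polar_comm (f := ⇑Q) u' u, QuadraticMap.polar_comm (f := ⇑Q) v' v,
          QuadraticMap.polar_comm (f := ⇑Q) v' u', QuadraticMap.polar_comm (f := ⇑Q) u' v,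
          QuadraticMap.polar_comm (f := ⇑Q) v' u]
    have hzero : ∀ g : Fin 4 → F, (∀ x ∈ Submodule.span F (Set.range B), polar ⇑Q (∑ i, g i • B i) x = 0) →
        g = 0 := fun g hg => by
      obtain ⟨q1, q2, q3, q4⟩ := hco g
      have a0 : g 0 = 0 := (mul_eq_zero.1 (q1.symm.trans (hg v' (Submodule.subset_span ⟨3, rfl⟩)))).resolve_right hne
      have a1 : g 1 = 0 := (mul_eq_zero.1 (q2.symm.trans (hg u' (Submodule.subset_span ⟨2, rfl⟩)))).resolve_right hne
      have a3 := q3.symm.trans (hg u (Submodule.subset_span ⟨0, rfl⟩))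
      have a2 := q4.symm.trans (hg v (Submodule.subset_span ⟨1, rfl⟩))
      rw [a1, zero_mul, zero_add, mul_eq_zero] at a3
      rw [a0, zero_mul, zero_add, mul_eq_zero] at a2
      funext i
      fin_cases i
      · exact a0
      · exact a1
      · exact a2.resolve_right hne
      · exact a3.resolve_right hne
    have hli : LinearIndependent F B := Fintype.linearIndependent_iff.2 fun g hg i =>
      congrFun (hzero g fun x _ => by rw [hg, QuadraticMap.polar_zero_left]) i
    refine ⟨Submodule.span F (Set.range B), ?_, fun y hy hy0 => ?_, ?_, Or.inr ⟨?_, ?_⟩⟩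
    · rw [Submodule.span_le]
      rintro _ ⟨i, rfl⟩
      fin_cases i
      · exact hu
      · exact hv
      · exact M.add_mem (apply_invariant hMX hu) hu
      · exact M.add_mem (apply_invariant hMX hv) hv
    · obtain ⟨g, rfl⟩ := (Submodule.mem_span_range_iff_exists_fun F).1 hy
      obtain ⟨x, hx, hx'⟩ : ∃ x ∈ Submodule.span F (Set.range B), polar ⇑Q (∑ i, g i • B i) x ≠ 0 := by
        by_contra hno
        push Not at hno
        exact hy0 (by rw [hzero g hno]; simp)
      exact ⟨⟨x, hx, by rwa [QuadraticMap.polar_comm]⟩, ⟨x, hx, hx'⟩⟩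
    · rw [Inv, Submodule.map_span, Submodule.span_le]
      rintro _ ⟨_, ⟨i, rfl⟩, rfl⟩
      rw [Matrix.toLin'_apply, SetLike.mem_coe]
      have m : ∀ j, B j ∈ Submodule.span F (Set.range B) := fun j => Submodule.subset_span ⟨j, rfl⟩
      fin_cases i
      · have : X *ᵥ u = u' + u := by rw [hu', add_assoc, htwo, add_zero]
        show X *ᵥ u ∈ _
        rw [this]
        exact Submodule.add_mem _ (m 2) (m 0)
      · have : X *ᵥ v = v' + v := by rw [hv', add_assoc, htwo, add_zero]
        show X *ᵥ v ∈ _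
        rw [this]
        exact Submodule.add_mem _ (m 3) (m 1)
      · show X *ᵥ u' ∈ _
        rw [hu', mulVec_add, hXX, add_comm]
        exact m 2
      · show X *ᵥ v' ∈ _
        rw [hv', mulVec_add, hXX, add_comm]
        exact m 3
    · rw [finrank_span_eq_card hli, Fintype.card_fin]
    · refine ⟨Submodule.span F (Set.range (B ∘ ![2, 3])), Submodule.span_mono (Set.range_comp_subset_range _ _),
        fun y hy => ?_, ?_⟩
      · obtain ⟨g, rfl⟩ := (Submodule.mem_span_range_iff_exists_fun F).1 hy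
        simp only [B, Fin.sum_univ_two, Function.comp_apply, Matrix.cons_val_zero, Matrix.cons_val_one,
          Matrix.cons_val]
        rw [QuadraticMap.map_add Q, QuadraticMap.map_smul, QuadraticMap.map_smul, polar_smul_left, polar_smul_right,
          hNQ u hu, hNQ v hv, hNN u v]
        simp
      · rw [finrank_span_eq_card (hli.comp _ (by decide)), finrank_span_eq_card hli]
        rfl
  push Not at h3
  have hfix : ∀ v ∈ M, X *ᵥ v = v := fun v hv => by
    have h0 : X *ᵥ v + v = 0 := by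
      by_contra h
      obtain ⟨⟨x, hx, hne⟩, -⟩ := hM _ (M.add_mem (apply_invariant hMX hv) hv) h
      exact hne (h3 x hx v hv)
    calc X *ᵥ v = X *ᵥ v + (v + v) := by rw [htwo, add_zero]
      _ = v := by rw [← add_assoc, h0, zero_add]
  obtain ⟨u, hu, hu0⟩ := Submodule.exists_mem_ne_zero_of_ne_bot hM0
  obtain ⟨-, w, hw, hne⟩ := hM u hu hu0
  exact plane u w hu hw hne (by rw [hfix u hu]; exact Submodule.subset_span ⟨0, rfl⟩)
    (by rw [hfix w hw]; exact Submodule.subset_span ⟨1, rfl⟩)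

/-- Invariant subspaces of every permitted dimension and of the same type as the space. -/
theorem invol_two_exists (h2 : (2 : F) = 0) {X : Matrix ι ι F} (hX : X * X = 1) (hXQ : ∀ v, Q (X *ᵥ v) = Q v) :
    ∀ (d : ℕ) {M : Submodule F (ι → F)}, Module.finrank F M = 2 * d → IsNondegenerateOn (polar ⇑Q) M → Inv X M →
    ∀ k ≤ d, (IsPlusTypeOn (⇑Q) M → Even k ∨ Odd d) → (¬ IsPlusTypeOn (⇑Q) M → 1 ≤ k ∧ (Odd k ∨ Even d)) →
    ∃ W ≤ M, IsNondegenerateOn (polar ⇑Q) W ∧ Inv X W ∧ Module.finrank F W = 2 * k ∧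
      (IsPlusTypeOn (⇑Q) W ↔ IsPlusTypeOn (⇑Q) M) := by
  intro d
  induction d using Nat.strong_induction_on with
  | _ d ih =>
    intro M hMd hM hMX k hkd hplus hminus
    rcases Nat.eq_zero_or_pos k with rfl | hk0
    · have hp : IsPlusTypeOn (⇑Q) M := by
        by_contra h
        exact absurd (hminus h).1 (by omega)
      exact ⟨⊥, bot_le, fun w hw h0 => absurd ((Submodule.mem_bot F).1 hw) h0, by rw [Inv, Submodule.map_bot],
        by simp, iff_of_true isPlusTypeOn_bot hp⟩
    rcases eq_or_lt_of_le hkd with rfl | hlt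
    · exact ⟨M, le_rfl, hM, hMX, hMd, Iff.rfl⟩
    have hM0 : M ≠ ⊥ := fun h => by rw [h, finrank_bot] at hMd; omega
    obtain ⟨P, hPM, hP, hPX, hPd⟩ := exists_atom h2 hM hM0 hX hXQ hMX
    obtain ⟨M', hM'M, hM', hM'X, ho, hsup, hdim⟩ := exists_complement_in hP hM hPM hX hXQ hPX hMX
    -- adjoining `P`
    have join : ∀ (j a : ℕ) (W : Submodule F (ι → F)), W ≤ M' → IsNondegenerateOn (polar ⇑Q) W → Inv X W →
        Module.finrank F W = 2 * j → Module.finrank F P = 2 * a →
        ∃ V ≤ M, IsNondegenerateOn (polar ⇑Q) V ∧ Inv X V ∧ Module.finrank F V = 2 * (a + j) ∧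
          (IsPlusTypeOn (⇑Q) V ↔ (IsPlusTypeOn (⇑Q) P ↔ IsPlusTypeOn (⇑Q) W)) := fun j a W hWM hW hWX hWd hPa => by
      obtain ⟨h1, h3, h4⟩ := sup_orth hP hW (fun p hp w hw => ho p hp w (hWM hw)) hPa hWd
      exact ⟨P ⊔ W, sup_le hPM (hWM.trans hM'M), h1, by rw [Inv, Submodule.map_sup]; exact sup_le_sup hPX hWX, h3, h4⟩
    rcases hPd with hPd | ⟨hPd, hPp⟩
    · have hd' : Module.finrank F M' = 2 * (d - 1) := by omega
      have htype := (sup_orth hP hM' ho (a := 1) (by omega) hd').2.2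
      rw [hsup] at htype
      have IH := ih (d - 1) (by omega) hd' hM' hM'X
      by_cases hPp : IsPlusTypeOn (⇑Q) P
      · rw [iff_true_left hPp] at htype
        by_cases hsame : (IsPlusTypeOn (⇑Q) M ∧ Even k) ∨ (¬ IsPlusTypeOn (⇑Q) M ∧ Odd k)
        · obtain ⟨W, hW1, hW2, hW3, hW4, hW5⟩ := IH k (by omega)
            (fun h => by
              rcases hsame with ⟨-, h'⟩ | ⟨h', -⟩
              · exact Or.inl h'
              · exact absurd (htype.2 h) h')
            (fun h => by
              rcases hsame with ⟨h', -⟩ | ⟨-, h'⟩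
              · exact absurd (htype.1 h') h
              · exact ⟨hk0, Or.inl h'⟩)
          exact ⟨W, hW1.trans hM'M, hW2, hW3, hW4, hW5.trans htype.symm⟩
        · push Not at hsame
          obtain ⟨W, hW1, hW2, hW3, hW4, hW5⟩ := IH (k - 1) (by omega)
            (fun h => by
              have := hsame.1 (htype.2 h)
              rw [Nat.not_even_iff_odd, Nat.odd_iff] at this
              exact Or.inl (Nat.even_iff.2 (by omega)))
            (fun h => by
              have := hsame.2 (fun h' => h (htype.1 h'))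
              rw [Nat.not_odd_iff_even, Nat.even_iff] at this
              exact ⟨by omega, Or.inl (Nat.odd_iff.2 (by omega))⟩)
          obtain ⟨V, hV1, hV2, hV3, hV4, hV5⟩ := join (k - 1) 1 W hW1 hW2 hW3 hW4 (by omega)
          exact ⟨V, hV1, hV2, hV3, by omega, hV5.trans ((iff_true_left hPp).trans (hW5.trans htype.symm))⟩
      · rw [iff_false_left hPp] at htype
        by_cases hk1 : k = 1
        · by_cases hp : IsPlusTypeOn (⇑Q) M
          · -- the complement of a large subspace of `M'`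
            have hodd : Odd d := (hplus hp).resolve_left (by rw [hk1]; decide)
            rw [Nat.odd_iff] at hodd
            obtain ⟨W, hW1, hW2, hW3, hW4, hW5⟩ := IH (d - 2) (by omega) (fun h => absurd h (htype.1 hp))
              (fun _ => ⟨by omega, Or.inl (Nat.odd_iff.2 (by omega))⟩)
            obtain ⟨W', h1, h3, h4, h5, h6, h7⟩ := exists_complement_in hW2 hM' hW1 hX hXQ hW3 hM'X
            have h8 : Module.finrank F W' = 2 * 1 := by omega
            have ht := (sup_orth hW2 h3 h5 hW4 h8).2.2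
            rw [h6] at ht
            refine ⟨W', h1.trans hM'M, h3, h4, by omega, iff_of_true ?_ hp⟩
            have hm' : ¬ IsPlusTypeOn (⇑Q) M' := htype.1 hp
            by_contra hno
            exact hm' (ht.2 (iff_of_false (fun h => hm' (hW5.1 h)) hno))
          · exact ⟨P, hPM, hP, hPX, by omega, iff_of_false hPp hp⟩
        · obtain ⟨W, hW1, hW2, hW3, hW4, hW5⟩ := IH (k - 1) (by omega)
            (fun h => by
              have := (hminus (fun hp => htype.1 hp h)).2
              rw [Nat.odd_iff, Nat.even_iff] at this ⊢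
              omega)
            (fun h => by
              have := hplus (htype.2 h)
              rw [Nat.odd_iff, Nat.even_iff] at this ⊢
              omega)
          obtain ⟨V, hV1, hV2, hV3, hV4, hV5⟩ := join (k - 1) 1 W hW1 hW2 hW3 hW4 (by omega)
          refine ⟨V, hV1, hV2, hV3, by omega, hV5.trans ((iff_false_left hPp).trans ?_)⟩
          rw [hW5]
          exact htype.symm
    · have hd' : Module.finrank F M' = 2 * (d - 2) := by omega
      have htype := (sup_orth hP hM' ho (a := 2) (by omega) hd').2.2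
      rw [hsup, iff_true_left hPp] at htype
      have IH := ih (d - 2) (by omega) hd' hM' hM'X
      have hp2 : ∀ h : IsPlusTypeOn (⇑Q) M', k % 2 = 0 ∨ d % 2 = 1 := fun h => by
        have := hplus (htype.2 h)
        rwa [Nat.odd_iff, Nat.even_iff] at this
      have hm2 : ∀ h : ¬ IsPlusTypeOn (⇑Q) M', k % 2 = 1 ∨ d % 2 = 0 := fun h => by
        have := (hminus (fun h' => h (htype.1 h'))).2
        rwa [Nat.odd_iff, Nat.even_iff] at this
      by_cases hle : k ≤ d - 2
      · obtain ⟨W, hW1, hW2, hW3, hW4, hW5⟩ := IH k hle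
          (fun h => by
            have := hp2 h
            rw [Nat.odd_iff, Nat.even_iff]
            omega)
          (fun h => by
            have := hm2 h
            rw [Nat.odd_iff, Nat.even_iff]
            omega)
        exact ⟨W, hW1.trans hM'M, hW2, hW3, hW4, hW5.trans htype.symm⟩
      · have hk2 : 2 ≤ k := by
          by_contra hk2
          have hd0 : M' = ⊥ := Submodule.finrank_eq_zero.1 (by omega)
          have := hp2 (hd0 ▸ isPlusTypeOn_bot)
          omega
        obtain ⟨W, hW1, hW2, hW3, hW4, hW5⟩ := IH (k - 2) (by omega)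
          (fun h => by
            have := hp2 h
            rw [Nat.odd_iff, Nat.even_iff]
            omega)
          (fun h => by
            have := hm2 h
            rw [Nat.odd_iff, Nat.even_iff]
            omega)
        obtain ⟨V, hV1, hV2, hV3, hV4, hV5⟩ := join (k - 2) 2 W hW1 hW2 hW3 hW4 (by omega)
        exact ⟨V, hV1, hV2, hV3, by omega, hV5.trans ((iff_true_left hPp).trans (hW5.trans htype.symm))⟩

end CfsgLib.OrthFix
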