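import Cfsg.Agent.Lib.OrthFix.Types

/-!
Which tuples of multiplicities are realised by isometries of a given non-degenerate quadratic space.
-/

set_option autoImplicit false
set_option linter.unusedSectionVars false

namespace CfsgLib.OrthFix

open Matrix QuadraticMap CfsgLib.PrimeClasses CfsgLib.QuadType

variable {F : Type*} [Field F] [Fintype F] {r : ℕ} [hr : Fact r.Prime]
variable {L : Type*} [Field L] [Algebra F L] {ζ : L} (hζ : IsPrimitiveRoot ζ r)
variable {κ : Type} [Fintype κ] [DecidableEq κ]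

/-- The orbit size. -/
noncomputable abbrev isz (hrK : (r : F) ≠ 0) : ℕ :=
  (fun _ => orderOf (Fintype.card F : ZMod r)) hrK

/-- `d` consists of `N` blocks. -/
def IsBlocks (hrK : (r : F) ≠ 0) (d : Orbits hrK → ℕ) (N : ℕ) : Prop :=
  IsSym (orb hrK (-1)) d ∧ isz hrK * ∑ ω, d ω = N * cc (isz hrK)

theorem isz_pos (hrK : (r : F) ≠ 0) : 0 < isz hrK := orbit_size_pos hrK

theorem orb_ne (hr2 : r ≠ 2) (hrK : (r : F) ≠ 0) (h : Odd (isz hrK)) : orb hrK (-1) ≠ 1 := fun e =>
  Nat.not_even_iff_odd.2 h ((orb_neg_one_eq_one_iff hrK hr2).1 e)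

theorem isBlocks_even {hrK : (r : F) ≠ 0} {d : Orbits hrK → ℕ} {N : ℕ} (he : Even (isz hrK))
    (h : IsBlocks hrK d N) : ∑ ω, d ω = N := by
  have h2 := h.2
  rw [cc, if_pos he, mul_comm N] at h2
  exact Nat.eq_of_mul_eq_mul_left (isz_pos hrK) h2

theorem exists_blocks (hr2 : r ≠ 2) {hrK : (r : F) ≠ 0} {d : Orbits hrK → ℕ}
    (hd : IsSym (orb hrK (-1)) d) : ∃ N, IsBlocks hrK d N := by
  classical
  rcases Nat.even_or_odd (isz hrK) with he | ho
  · exact ⟨∑ ω, d ω, hd, by rw [cc, if_pos he, mul_comm]⟩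
  · have := Fintype.ofFinite (Orbits hrK ⧸ Subgroup.zpowers (orb hrK (-1)))
    refine ⟨∑ a : Orbits hrK ⧸ Subgroup.zpowers (orb hrK (-1)), d a.out, hd, ?_⟩
    rw [cc, if_neg (Nat.not_even_iff_odd.2 ho), sum_sym (orb_neg_one_sq hrK) (orb_ne hr2 hrK ho) hd]
    ring

theorem IsBlocks.le_card {hrK : (r : F) ≠ 0} {X : Matrix κ κ F} (hX : X ^ r = 1) {N : ℕ}
    (h : IsBlocks hrK (orbitMult hζ hrK X) N) : N * cc (isz hrK) ≤ Fintype.card κ := by
  rw [← h.2]; exact weight_orbitMult_le hζ hrK hX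

theorem exists_isQuadPair (Q : QuadraticForm F (κ → F)) (hQ : Q.polarBilin.Nondegenerate) :
    ∃ B, CfsgLib.ClassicalGroups.IsQuadPair (⇑Q) B :=
  ⟨Q.polarBilin,
    { smul := fun a v => by rw [QuadraticMap.map_smul, smul_eq_mul]
      add := fun u v => QuadraticMap.map_add Q u v
      nondeg := fun u hu => hQ.1 u hu }⟩

theorem isPlus_zero (f : (κ → F) → F) (h0 : f 0 = 0) : IsPlus f 0 :=
  ⟨⊥, fun u hu => by rw [(Submodule.mem_bot F).1 hu, h0], finrank_bot F _⟩

include hζ in
/-- The realised tuples. -/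
theorem realised_iff (hgen : Algebra.adjoin F ({ζ} : Set L) = ⊤) (hr2 : r ≠ 2) {hrK : (r : F) ≠ 0}
    (Q : QuadraticForm F (κ → F)) (hQ : Q.polarBilin.Nondegenerate) (d : Orbits hrK → ℕ) :
    ORealised hζ hrK (⇑Q) d ↔ ∃ N, IsBlocks hrK d N ∧
      Valid (Fintype.card κ) (IsPlus (⇑Q) (Fintype.card κ / 2)) (isz hrK) N := by
  classical
  obtain ⟨B, hB⟩ := exists_isQuadPair Q hQ
  obtain ⟨a, c, hac⟩ := exists_anisotropic_binary (F := F)
  set i := isz hrK with hi
  have hisz : orderOf (Fintype.card F : ZMod r) = i := rfl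
  -- the even-dimensional standard spaces
  have plus_full : ∀ (k N : ℕ) (d : Orbits hrK → ℕ), IsBlocks hrK d N → N * cc i = 2 * k →
      (Odd i ∨ Even N) → ORealised hζ hrK (Cfsg.quadFormPlus k F) d := by
    intro k N d hd hfull hor
    rcases Nat.even_or_odd i with he | ho
    · obtain ⟨j, hj⟩ := he
      have hsum := isBlocks_even ⟨j, hj⟩ hd
      rw [cc, if_pos ⟨j, hj⟩, hj] at hfull
      have hk : (∑ ω, d ω) * j = k := by
        rw [hsum]
        linarith
      have := (O_realise_blocks hζ hrK hac (j := j) (by rw [hisz, hj, two_mul]) d).1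
        (hsum.symm ▸ hor.resolve_left (Nat.not_odd_iff_even.2 ⟨j, hj⟩))
      rwa [hk] at this
    · refine O_realise_plus hζ hrK (orb_ne hr2 hrK ho) hd.1 ?_
      rw [hisz, hd.2, hfull]
  have minus_full : ∀ (k N : ℕ) (d : Orbits hrK → ℕ), IsBlocks hrK d N → N * cc i = 2 * k →
      ¬ (Odd i ∨ Even N) → 1 ≤ k ∧ ORealised hζ hrK (Cfsg.quadFormMinus (k - 1) F a c) d := by
    intro k N d hd hfull hor
    rw [not_or, Nat.not_odd_iff_even, Nat.not_even_iff_odd] at hor
    obtain ⟨⟨j, hj⟩, hN⟩ := hor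
    have hsum := isBlocks_even ⟨j, hj⟩ hd
    rw [cc, if_pos ⟨j, hj⟩, hj] at hfull
    have hk : (∑ ω, d ω) * j = k := by
      rw [hsum]
      linarith
    have hj0 : 0 < j := by
      have := isz_pos (F := F) hrK
      omega
    have := (O_realise_blocks hζ hrK hac (j := j) (by rw [hisz, hj, two_mul]) d).2 (hsum.symm ▸ hN)
    rw [hk] at this
    exact ⟨hk ▸ Nat.mul_pos (hsum.symm ▸ hN.pos) hj0, this⟩
  constructor
  · rintro ⟨X, hX, hXQ, rfl⟩
    obtain ⟨N, hN⟩ := exists_blocks hr2 (O_isSym hζ hrK hB hX hXQ)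
    refine ⟨N, hN, hN.le_card hζ hX, fun hfull => ?_⟩
    obtain ⟨k, hk⟩ := cc_even i
    have hcard : Fintype.card κ = 2 * (N * k) := by rw [← hfull, hk]; ring
    have hdiv : Fintype.card κ / 2 = N * k := by omega
    rw [hdiv]
    rcases Nat.eq_zero_or_pos (N * k) with h0 | hpos
    · rw [h0]
      refine iff_of_true (isPlus_zero _ (map_zero Q)) (Or.inr ?_)
      rcases Nat.eq_zero_or_pos N with rfl | hN0
      · exact Even.zero
      · have := cc_pos (isz_pos (F := F) hrK)
        rw [← hi, hk] at this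
        have := Nat.mul_pos hN0 (show 0 < k by omega)
        omega
    have hfull2 : isz hrK * ∑ ω, orbitMult hζ hrK X ω = 2 * (N * k) := by rw [hN.2, ← hi, hfull, hcard]
    obtain ⟨h1, h2⟩ := qEquiv_standard Q hQ hcard hac
    by_cases hor : Odd i ∨ Even N
    · refine iff_of_true ?_ hor
      by_contra hp
      exact not_both_types hζ hrK hac hgen hr2 hpos hfull2 (plus_full _ N _ hN (hfull.trans hcard) hor)
        (ORealised.of_qEquiv hζ (Q := ⇑Q) ⟨X, hX, hXQ, rfl⟩ (h2 hp).2.symm)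
    · refine iff_of_false (fun hp => ?_) hor
      exact not_both_types hζ hrK hac hgen hr2 hpos hfull2
        (ORealised.of_qEquiv hζ (Q := ⇑Q) ⟨X, hX, hXQ, rfl⟩ (h1 hp).symm)
        (minus_full _ N _ hN (hfull.trans hcard) hor).2
  · rintro ⟨N, hN, hle, hfull⟩
    obtain ⟨u, hu⟩ := cc_even i
    have hw : N * cc i = 2 * (N * u) := by rw [hu]; ring
    -- realise on the natural space of dimension `N * cc i`, then pad
    rcases Nat.even_or_odd' (Fintype.card κ) with ⟨k, hk | hk⟩
    · obtain ⟨h1, h2⟩ := qEquiv_standard Q hQ hk hac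
      have hdiv : Fintype.card κ / 2 = k := by omega
      rw [hdiv] at hfull
      have huk : N * u ≤ k := by omega
      by_cases hor : Odd i ∨ Even N
      · have hn := plus_full _ N d hN hw hor
        by_cases hp : IsPlus (⇑Q) k
        · exact (hn.pad hζ (Cfsg.quadFormPlus (k - N * u) F) (plus_add_plus' (by omega))).of_qEquiv hζ (h1 hp)
        · have hne : N * u ≠ k := fun e => hp ((hfull (by omega)).2 hor)
          exact (hn.pad hζ (Cfsg.quadFormMinus (k - N * u - 1) F a c) (plus_add_minus' a c (by omega))).of_qEquiv hζ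
            (h2 hp).2
      · obtain ⟨h1u, hn⟩ := minus_full _ N d hN hw hor
        by_cases hp : IsPlus (⇑Q) k
        · have hne : N * u ≠ k := fun e => hor ((hfull (by omega)).1 hp)
          exact (hn.pad hζ (Cfsg.quadFormMinus (k - N * u - 1) F a c) (minus_add_minus' hac (by omega))).of_qEquiv hζ
            (h1 hp)
        · exact (hn.pad hζ (Cfsg.quadFormPlus (k - N * u) F) (minus_add_plus' a c (by omega))).of_qEquiv hζ
            (h2 hp).2
    · obtain ⟨h2, s, hs, he⟩ := qEquiv_odd Q hQ hk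
      have huk : N * u ≤ k := by omega
      have hstd : ORealised hζ hrK (Cfsg.quadFormOdd k F) d := by
        by_cases hor : Odd i ∨ Even N
        · exact (plus_full _ N d hN hw hor).pad hζ (Cfsg.quadFormOdd (k - N * u) F) (plus_add_odd' (by omega))
        · obtain ⟨h1u, hn⟩ := minus_full _ N d hN hw hor
          refine (hn.pad hζ (compLine a c) (minus_add_compLine hac h2 (k := N * u) (by omega))).pad hζ
            (Cfsg.quadFormPlus (k - N * u) F) (odd_add_plus' (by omega))
      obtain ⟨X, hX, hXQ, hXc⟩ := hstd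
      exact ORealised.of_qEquiv hζ (⟨X, hX, fun v => by rw [hXQ], hXc⟩) he

end CfsgLib.OrthFix
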