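import Cfsg.Agent.Lib.OrthFix.Subspaces
import Cfsg.Agent.Lib.Orth.NegOne

/-!
Isometries `X` with `X * X = -1` in odd characteristic: the type of the space, membership in `Ω`, existence.
-/

set_option autoImplicit false
set_option linter.unusedSectionVars false

namespace CfsgLib.OrthFix

open Matrix QuadraticMap CfsgLib.PrimeClasses CfsgLib.QuadType CfsgLib.Orth

variable {F : Type*} [Field F] [Fintype F] {ι κ μ : Type} [Fintype ι] [DecidableEq ι]
  [Fintype κ] [DecidableEq κ] [Fintype μ] [DecidableEq μ]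

omit [Fintype F] in
theorem sqNeg_app {X : Matrix ι ι F} (hX : X * X = -1) (v : ι → F) : X *ᵥ (X *ᵥ v) = -v := by
  rw [mulVec_mulVec, hX, neg_mulVec, one_mulVec]

omit [Fintype F] in
theorem sqNeg_ortho (h2 : (2 : F) ≠ 0) {Q : QuadraticForm F (ι → F)} {X : Matrix ι ι F} (hX : X * X = -1)
    (hXQ : ∀ v, Q (X *ᵥ v) = Q v) (v : ι → F) : polar ⇑Q v (X *ᵥ v) = 0 := by
  have h : polar ⇑Q (X *ᵥ v) (X *ᵥ (X *ᵥ v)) = polar ⇑Q v (X *ᵥ v) := by
    simp only [QuadraticMap.polar, ← mulVec_add, hXQ]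
  rw [sqNeg_app hX, polar_neg_right, QuadraticMap.polar_comm, eq_comm, eq_neg_iff_add_eq_zero, ← two_mul] at h
  exact (mul_eq_zero.1 h).resolve_left h2

omit [Fintype F] in
/-- Restrictions to an invariant summand and to its complement. -/
theorem sqNeg_restrict {Q : QuadraticForm F (ι → F)} {Q₁ : QuadraticForm F (κ → F)} {Q₂ : QuadraticForm F (μ → F)}
    {E : (κ ⊕ μ → F) ≃ₗ[F] (ι → F)} (hE : Splits Q Q₁ Q₂ E) (hQ : Q.polarBilin.Nondegenerate)
    {X : Matrix ι ι F} (hX : X * X = -1) (hXQ : ∀ v, Q (X *ᵥ v) = Q v) (hW : Inv X (summand E)) :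
    (∃ Y : Matrix κ κ F, Y * Y = -1 ∧ ∀ v, Q₁ (Y *ᵥ v) = Q₁ v) ∧
      ∃ Y : Matrix μ μ F, Y * Y = -1 ∧ ∀ v, Q₂ (Y *ᵥ v) = Q₂ v := by
  have hXp : ∀ u v, polar ⇑Q (X *ᵥ u) (X *ᵥ v) = polar ⇑Q u v := fun u v => by
    simp only [QuadraticMap.polar, ← mulVec_add, hXQ]
  let T : (κ ⊕ μ → F) →ₗ[F] (κ ⊕ μ → F) := E.symm.toLinearMap ∘ₗ X.mulVecLin ∘ₗ E.toLinearMap
  have hTT : ∀ v, T (T v) = -v := fun v => by
    simp [T, sqNeg_app hX]
  have hTQ : ∀ v, qSum (⇑Q₁) (⇑Q₂) (T v) = qSum (⇑Q₁) (⇑Q₂) v := fun v => by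
    rw [← hE, ← hE]
    simp [T, hXQ]
  have hl : ∀ u : κ → F, T (Sum.elim u 0) ∘ Sum.inr = 0 := fun u => by
    have := apply_invariant hW (v := E (Sum.elim u 0)) (mem_summand.2 (by simp))
    rwa [mem_summand] at this
  have hr : ∀ w : μ → F, T (Sum.elim 0 w) ∘ Sum.inl = 0 := fun w => by
    refine (hE.nondeg_left hQ).1 _ fun u => ?_
    have h1 : polar ⇑Q (E (T (Sum.elim 0 w))) (E (Sum.elim u 0)) = 0 := by
      have e : E (T (Sum.elim 0 w)) = X *ᵥ E (Sum.elim 0 w) := by simp [T]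
      have hp := hXp (E (Sum.elim 0 w)) (-(X *ᵥ E (Sum.elim u 0)))
      rw [mulVec_neg, sqNeg_app hX, neg_neg] at hp
      rw [e, hp, polar_neg_right, neg_eq_zero, show X *ᵥ E (Sum.elim u 0) = E (T (Sum.elim u 0)) by simp [T],
        hE.polar_apply, hl]
      simp [QuadraticMap.polar_zero_left, QuadraticMap.polar_zero_right]
    rw [hE.polar_apply] at h1
    simpa [QuadraticMap.polar_zero_right] using h1
  have el : ∀ u : κ → F, T (Sum.elim u 0) = Sum.elim (T (Sum.elim u 0) ∘ Sum.inl) 0 := fun u =>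
    funext fun j => by
      rcases j with j | j
      · rfl
      · exact congrFun (hl u) j
  have er : ∀ w : μ → F, T (Sum.elim (0 : κ → F) w) = Sum.elim (0 : κ → F) (T (Sum.elim 0 w) ∘ Sum.inr) := fun w =>
    funext fun j => by
      rcases j with j | j
      · exact congrFun (hr w) j
      · rfl
  let jl : (κ → F) →ₗ[F] (κ ⊕ μ → F) := LinearMap.pi (Sum.elim (fun k => LinearMap.proj k) fun _ => 0)
  let jr : (μ → F) →ₗ[F] (κ ⊕ μ → F) := LinearMap.pi (Sum.elim (fun _ => 0) fun k => LinearMap.proj k)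
  have hjl : ∀ u, jl u = Sum.elim u 0 := fun u => funext fun j => by rcases j with j | j <;> simp [jl]
  have hjr : ∀ u, jr u = Sum.elim (0 : κ → F) u := fun u => funext fun j => by rcases j with j | j <;> simp [jr]
  refine ⟨⟨LinearMap.toMatrix' (LinearMap.funLeft F F Sum.inl ∘ₗ T ∘ₗ jl), ?_, fun u => ?_⟩,
    ⟨LinearMap.toMatrix' (LinearMap.funLeft F F Sum.inr ∘ₗ T ∘ₗ jr), ?_, fun u => ?_⟩⟩
  · refine Matrix.ext_of_mulVec_single fun i => ?_
    rw [← mulVec_mulVec, LinearMap.toMatrix'_mulVec, LinearMap.toMatrix'_mulVec, neg_mulVec, one_mulVec]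
    show T (jl (T (jl _) ∘ Sum.inl)) ∘ Sum.inl = _
    rw [hjl, hjl, ← el, hTT]
    funext k; simp [Pi.single_apply]
  · rw [LinearMap.toMatrix'_mulVec]
    show Q₁ (T (jl u) ∘ Sum.inl) = Q₁ u
    have := hTQ (Sum.elim u 0)
    rw [el u] at this
    simpa [qSum, hjl] using this
  · refine Matrix.ext_of_mulVec_single fun i => ?_
    rw [← mulVec_mulVec, LinearMap.toMatrix'_mulVec, LinearMap.toMatrix'_mulVec, neg_mulVec, one_mulVec]
    show T (jr (T (jr _) ∘ Sum.inr)) ∘ Sum.inr = _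
    rw [hjr, hjr, ← er, hTT]
    funext k; simp [Pi.single_apply]
  · rw [LinearMap.toMatrix'_mulVec]
    show Q₂ (T (jr u) ∘ Sum.inr) = Q₂ u
    have := hTQ (Sum.elim 0 u)
    rw [er u] at this
    simpa [qSum, hjr] using this

omit [Fintype F] in
/-- A plane spanned by `v` and `X v`. -/
theorem sqNeg_plane (h2 : (2 : F) ≠ 0) {Q : QuadraticForm F (ι → F)} {X : Matrix ι ι F} (hX : X * X = -1)
    (hXQ : ∀ v, Q (X *ᵥ v) = Q v) {v : ι → F} (hv : Q v ≠ 0) :
    Inv X (Submodule.span F (Set.range ![v, X *ᵥ v])) ∧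
    Cfsg.Geo.IsNondegenerateOn (polar ⇑Q) (Submodule.span F (Set.range ![v, X *ᵥ v])) ∧
    Module.finrank F (Submodule.span F (Set.range ![v, X *ᵥ v])) = 2 := by
  have ho := sqNeg_ortho h2 hX hXQ v
  have hvv : polar ⇑Q v v ≠ 0 := by rw [polar_self']; exact mul_ne_zero h2 hv
  have hww : polar ⇑Q (X *ᵥ v) (X *ᵥ v) ≠ 0 := by rw [polar_self', hXQ]; exact mul_ne_zero h2 hv
  have hco : ∀ a b : F, polar ⇑Q (a • v + b • (X *ᵥ v)) v = a * polar ⇑Q v v ∧
      polar ⇑Q (a • v + b • (X *ᵥ v)) (X *ᵥ v) = b * polar ⇑Q (X *ᵥ v) (X *ᵥ v) := fun a b => by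
    constructor <;>
      simp [polar_add_left, polar_smul_left, QuadraticMap.polar_comm (f := ⇑Q) (X *ᵥ v) v, ho]
  have hmem : v ∈ Submodule.span F (Set.range ![v, X *ᵥ v]) := Submodule.subset_span ⟨0, rfl⟩
  have hmem' : X *ᵥ v ∈ Submodule.span F (Set.range ![v, X *ᵥ v]) := Submodule.subset_span ⟨1, rfl⟩
  refine ⟨?_, ?_, ?_⟩
  · rw [Inv, Submodule.map_span, Submodule.span_le]
    rintro _ ⟨_, ⟨i, rfl⟩, rfl⟩
    rw [Matrix.toLin'_apply, SetLike.mem_coe]
    fin_cases i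
    · exact hmem'
    · show X *ᵥ (X *ᵥ v) ∈ _
      rw [sqNeg_app hX]
      exact neg_mem hmem
  · intro w hw hw0
    obtain ⟨c, rfl⟩ := (Submodule.mem_span_range_iff_exists_fun F).1 hw
    simp only [Fin.sum_univ_two, Matrix.cons_val_zero, Matrix.cons_val_one] at hw0 ⊢
    obtain ⟨x, hx, hne⟩ : ∃ x ∈ Submodule.span F (Set.range ![v, X *ᵥ v]),
        polar ⇑Q (c 0 • v + c 1 • (X *ᵥ v)) x ≠ 0 := by
      by_contra hno
      push Not at hno
      have e0 := hno v hmem
      have e1 := hno _ hmem'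
      rw [(hco _ _).1, mul_eq_zero] at e0
      rw [(hco _ _).2, mul_eq_zero] at e1
      exact hw0 (by rw [e0.resolve_right hvv, e1.resolve_right hww]; simp)
    exact ⟨⟨x, hx, by rwa [QuadraticMap.polar_comm]⟩, ⟨x, hx, hne⟩⟩
  · rw [finrank_span_eq_card, Fintype.card_fin]
    rw [Fintype.linearIndependent_iff]
    intro g hg
    simp only [Fin.sum_univ_two, Matrix.cons_val_zero, Matrix.cons_val_one] at hg
    have e := hco (g 0) (g 1)
    rw [hg, QuadraticMap.polar_zero_left, QuadraticMap.polar_zero_left] at e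
    intro i
    fin_cases i
    · exact (mul_eq_zero.1 e.1.symm).resolve_right hvv
    · exact (mul_eq_zero.1 e.2.symm).resolve_right hww

omit [Fintype F] in
theorem sqNeg_plane_isPlus (h2 : (2 : F) ≠ 0) {Q : QuadraticForm F (κ → F)} (hQ : Q.polarBilin.Nondegenerate)
    {X : Matrix κ κ F} (hX : X * X = -1) (hXQ : ∀ v, Q (X *ᵥ v) = Q v) (hκ : Fintype.card κ = 2) :
    IsPlus (⇑Q) 1 ↔ IsSquare (-1 : F) := by
  obtain ⟨v, hv⟩ := exists_value_ne_zero hQ (by omega)
  obtain ⟨-, -, hd⟩ := sqNeg_plane h2 hX hXQ hv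
  have htop : Submodule.span F (Set.range ![v, X *ᵥ v]) = ⊤ :=
    Submodule.eq_top_of_finrank_eq (by rw [hd, Module.finrank_fintype_fun_eq_card, hκ])
  have hval : ∀ a b : F, Q (a • v + b • (X *ᵥ v)) = (a * a + b * b) * Q v := fun a b => by
    rw [QuadraticMap.map_add Q, QuadraticMap.map_smul, QuadraticMap.map_smul, hXQ, polar_smul_left, polar_smul_right,
      sqNeg_ortho h2 hX hXQ]
    simp [smul_eq_mul]
    ring
  constructor
  · rintro ⟨U, hU, hUd⟩
    obtain ⟨⟨u, hu⟩, hu0, -⟩ := finrank_eq_one_iff'.1 hUd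
    obtain ⟨c, hc⟩ := (Submodule.mem_span_range_iff_exists_fun F).1
      (show u ∈ Submodule.span F (Set.range ![v, X *ᵥ v]) by rw [htop]; trivial)
    simp only [Fin.sum_univ_two, Matrix.cons_val_zero, Matrix.cons_val_one] at hc
    have h0 := hU u hu
    rw [← hc, hval, mul_eq_zero] at h0
    have h1 := h0.resolve_right hv
    rcases eq_or_ne (c 0) 0 with e | e
    · rw [e, mul_zero, zero_add, mul_self_eq_zero] at h1
      exact absurd (Subtype.ext (by simp [← hc, e, h1])) hu0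
    · exact ⟨c 1 / c 0, by field_simp; linear_combination -h1⟩
  · rintro ⟨s, hs⟩
    have hne : (1 : F) • v + s • (X *ᵥ v) ≠ 0 := by
      intro h
      have h' := congrArg (fun w => polar ⇑Q w v) h
      simp only [polar_add_left, polar_smul_left, QuadraticMap.polar_zero_left,
        QuadraticMap.polar_comm (f := ⇑Q) (X *ᵥ v) v, sqNeg_ortho h2 hX hXQ, smul_zero, add_zero,
        one_smul, polar_self'] at h'
      exact mul_ne_zero h2 hv h'
    refine ⟨Submodule.span F {(1 : F) • v + s • (X *ᵥ v)}, ?_, finrank_span_singleton hne⟩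
    intro u hu
    obtain ⟨t, rfl⟩ := Submodule.mem_span_singleton.1 hu
    rw [QuadraticMap.map_smul, hval, show (1 : F) * 1 + s * s = 0 by rw [← hs]; ring, zero_mul, smul_zero]

/-- The type of a space with an isometry of square `-1`. -/
theorem sqNeg_type (h2 : (2 : F) ≠ 0) : ∀ (n : ℕ) {Q : QuadraticForm F (Fin n → F)},
    Q.polarBilin.Nondegenerate → ∀ {X : Matrix (Fin n) (Fin n) F}, X * X = -1 → (∀ v, Q (X *ᵥ v) = Q v) →
    Even n ∧ (IsPlus (⇑Q) (n / 2) ↔ (Even (n / 2) ∨ IsSquare (-1 : F))) := by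
  intro n
  induction n using Nat.strong_induction_on with
  | _ n ih =>
    intro Q hQ X hX hXQ
    rcases Nat.eq_zero_or_pos n with rfl | hn
    · exact ⟨Even.zero, iff_of_true (isPlus_zero _ (map_zero Q)) (Or.inl Even.zero)⟩
    obtain ⟨v, hv⟩ := exists_value_ne_zero hQ (by simpa using hn)
    obtain ⟨hinv, hnd, hd⟩ := sqNeg_plane h2 hX hXQ hv
    obtain ⟨a, b, Q₁, Q₂, E, hE, hsE, ha, hab⟩ := exists_splits hnd
    obtain ⟨⟨Y₁, hY₁, hY₁Q⟩, Y₂, hY₂, hY₂Q⟩ := sqNeg_restrict hE hQ hX hXQ (hsE ▸ hinv)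
    rw [Fintype.card_fin] at hab
    obtain ⟨hbe, hbt⟩ := ih b (by omega) (hE.nondeg_right hQ) hY₂ hY₂Q
    obtain ⟨w, hw⟩ := hbe
    have h1 := sqNeg_plane_isPlus h2 (hE.nondeg_left hQ) hY₁ hY₁Q (by simp; omega)
    refine ⟨⟨w + 1, by omega⟩, ?_⟩
    rw [show n / 2 = 1 + w by omega, hE.isPlus_iff hQ (a := 1) (b := w) (by simp; omega) (by simp; omega), h1]
    rw [show b / 2 = w by omega] at hbt
    rw [hbt]
    by_cases hs : IsSquare (-1 : F) <;> simp [hs, Nat.even_add_one, add_comm 1 w]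

omit [Fintype F] in
theorem reindex_sqNeg {Q : QuadraticForm F (ι → F)} {X : Matrix ι ι F} (hX : X * X = -1)
    (hXQ : ∀ v, Q (X *ᵥ v) = Q v) (e : (κ → F) ≃ₗ[F] (ι → F)) :
    ∃ Y : Matrix κ κ F, Y * Y = -1 ∧ ∀ v, Q (e (Y *ᵥ v)) = Q (e v) := by
  refine ⟨LinearMap.toMatrix' (e.symm.toLinearMap ∘ₗ X.mulVecLin ∘ₗ e.toLinearMap), ?_, fun v => ?_⟩
  · refine Matrix.ext_of_mulVec_single fun i => ?_
    rw [← mulVec_mulVec, LinearMap.toMatrix'_mulVec, LinearMap.toMatrix'_mulVec, neg_mulVec, one_mulVec]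
    simp [sqNeg_app hX]
  · rw [LinearMap.toMatrix'_mulVec]
    simp [hXQ]

/-- The type, for any index type. -/
theorem sqNeg_type' (h2 : (2 : F) ≠ 0) {Q : QuadraticForm F (ι → F)} (hQ : Q.polarBilin.Nondegenerate)
    {X : Matrix ι ι F} (hX : X * X = -1) (hXQ : ∀ v, Q (X *ᵥ v) = Q v) :
    Even (Fintype.card ι) ∧
      (IsPlus (⇑Q) (Fintype.card ι / 2) ↔ (Even (Fintype.card ι / 2) ∨ IsSquare (-1 : F))) := by
  let e : (Fin (Fintype.card ι) → F) ≃ₗ[F] (ι → F) := LinearEquiv.funCongrLeft F F (Fintype.equivFin ι)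
  have hq : QEquiv (⇑Q) fun v => Q (e v) := ⟨e.symm, fun v => by simp⟩
  obtain ⟨G, hG, hGn⟩ := nondeg_of_qEquiv Q hQ hq
  obtain ⟨Y, hY, hYQ⟩ := reindex_sqNeg hX hXQ e
  obtain ⟨h1, h3⟩ := sqNeg_type h2 _ hGn hY (fun v => by rw [hG]; exact hYQ v)
  exact ⟨h1, (isPlus_congr hq.symm _).trans (hG ▸ h3)⟩

/-- The type of an invariant non-degenerate subspace. -/
theorem sqNeg_subspace (h2 : (2 : F) ≠ 0) {Q : QuadraticForm F (ι → F)} (hQ : Q.polarBilin.Nondegenerate)
    {X : Matrix ι ι F} (hX : X * X = -1) (hXQ : ∀ v, Q (X *ᵥ v) = Q v) {W : Submodule F (ι → F)}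
    (hW : Cfsg.Geo.IsNondegenerateOn (polar ⇑Q) W) (hWX : Inv X W) :
    Even (Module.finrank F W) ∧ ∀ k, Module.finrank F W = 2 * k →
      (Cfsg.Geo.IsPlusTypeOn (⇑Q) W ↔ (Even k ∨ IsSquare (-1 : F))) := by
  obtain ⟨a, b, Q₁, Q₂, E, hE, rfl, ha, -⟩ := exists_splits hW
  obtain ⟨⟨Y, hY, hYQ⟩, -⟩ := sqNeg_restrict hE hQ hX hXQ hWX
  obtain ⟨h1, h3⟩ := sqNeg_type h2 _ (hE.nondeg_left hQ) hY hYQ
  refine ⟨ha ▸ h1, fun k hk => ?_⟩
  rw [← ha] at hk
  rw [hE.isPlusTypeOn_iff (k := k) (by simpa using hk), ← show a / 2 = k by omega, h3]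

omit [Fintype F] in
theorem nondegOn_sup {Q : QuadraticForm F (ι → F)} {U W : Submodule F (ι → F)}
    (hU : Cfsg.Geo.IsNondegenerateOn (polar ⇑Q) U) (hW : Cfsg.Geo.IsNondegenerateOn (polar ⇑Q) W)
    (ho : ∀ u ∈ U, ∀ w ∈ W, polar ⇑Q u w = 0) :
    Disjoint U W ∧ Cfsg.Geo.IsNondegenerateOn (polar ⇑Q) (U ⊔ W) := by
  refine ⟨Submodule.disjoint_def.2 fun v hv hv' => ?_, fun v hv hv0 => ?_⟩
  · by_contra h0
    obtain ⟨-, x, hx, hne⟩ := hU v hv h0
    exact hne (by rw [QuadraticMap.polar_comm]; exact ho x hx v hv')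
  · obtain ⟨u, hu, w, hw, rfl⟩ := Submodule.mem_sup.1 hv
    obtain ⟨x, hx, hne⟩ : ∃ x ∈ U ⊔ W, polar ⇑Q (u + w) x ≠ 0 := by
      by_contra hno
      push Not at hno
      have hu0 : u = 0 := by
        by_contra h
        obtain ⟨-, x, hx, hne⟩ := hU u hu h
        refine hne ?_
        have := hno x (Submodule.mem_sup_left hx)
        rwa [polar_add_left, QuadraticMap.polar_comm (f := ⇑Q) w x, ho x hx w hw, add_zero] at this
      have hw0 : w = 0 := by
        by_contra h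
        obtain ⟨-, x, hx, hne⟩ := hW w hw h
        refine hne ?_
        have := hno x (Submodule.mem_sup_right hx)
        rwa [polar_add_left, ho u hu x hx, zero_add] at this
      exact hv0 (by rw [hu0, hw0, add_zero])
    exact ⟨⟨x, hx, by rwa [QuadraticMap.polar_comm]⟩, ⟨x, hx, hne⟩⟩

/-- Invariant non-degenerate subspaces of every even dimension. -/
theorem sqNeg_exists_subspace (h2 : (2 : F) ≠ 0) {Q : QuadraticForm F (ι → F)} (hQ : Q.polarBilin.Nondegenerate)
    {X : Matrix ι ι F} (hX : X * X = -1) (hXQ : ∀ v, Q (X *ᵥ v) = Q v) :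
    ∀ j, 2 * j ≤ Fintype.card ι → ∃ W : Submodule F (ι → F), Module.finrank F W = 2 * j ∧
      Cfsg.Geo.IsNondegenerateOn (polar ⇑Q) W ∧ Inv X W := by
  intro j
  induction j with
  | zero =>
    exact fun _ => ⟨⊥, finrank_bot F _, fun w hw h0 => absurd ((Submodule.mem_bot F).1 hw) h0,
      by rw [Inv, Submodule.map_bot]⟩
  | succ j ih =>
    intro hj
    obtain ⟨W, hWd, hWn, hWi⟩ := ih (by omega)
    obtain ⟨a, b, Q₁, Q₂, E, hE, hsE, ha, hab⟩ := exists_splits hWn
    obtain ⟨u, hu⟩ := exists_value_ne_zero (hE.nondeg_right hQ) (by simp; omega)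
    have hv : Q (E (Sum.elim 0 u)) ≠ 0 := by
      rw [hE]
      simpa [qSum] using hu
    obtain ⟨hPi, hPn, hPd⟩ := sqNeg_plane h2 hX hXQ hv
    set v := E (Sum.elim 0 u)
    have hvW : ∀ y ∈ W, polar ⇑Q y v = 0 := fun y hy => by
      rw [← hsE, mem_summand] at hy
      rw [← E.apply_symm_apply y, hE.polar_apply, hy]
      simp [QuadraticMap.polar_zero_left, QuadraticMap.polar_zero_right]
    have ho : ∀ y ∈ W, ∀ z ∈ Submodule.span F (Set.range ![v, X *ᵥ v]), polar ⇑Q y z = 0 := fun y hy z hz => by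
      obtain ⟨c, rfl⟩ := (Submodule.mem_span_range_iff_exists_fun F).1 hz
      have e : polar ⇑Q y (X *ᵥ v) = 0 := by
        have h := hvW _ (apply_invariant hWi hy)
        have hp : polar ⇑Q (X *ᵥ y) (X *ᵥ (X *ᵥ v)) = polar ⇑Q y (X *ᵥ v) := by
          simp only [QuadraticMap.polar, ← mulVec_add, hXQ]
        rw [← hp, sqNeg_app hX, polar_neg_right, h, neg_zero]
      simp [Fin.sum_univ_two, polar_add_right, polar_smul_right, hvW y hy, e]
    obtain ⟨hdis, hnd⟩ := nondegOn_sup hWn hPn ho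
    refine ⟨W ⊔ Submodule.span F (Set.range ![v, X *ᵥ v]), ?_, hnd, ?_⟩
    · have h := Submodule.finrank_sup_add_finrank_inf_eq W (Submodule.span F (Set.range ![v, X *ᵥ v]))
      rw [hdis.eq_bot, finrank_bot, hWd, hPd] at h
      omega
    · rw [Inv, Submodule.map_sup]
      exact sup_le_sup hWi hPi

/-- An isometry of square `-1` exists when the type allows it. -/
theorem exists_sqNeg (h2 : (2 : F) ≠ 0) (Q : QuadraticForm F (ι → F)) (hQ : Q.polarBilin.Nondegenerate) {d : ℕ}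
    (hd : Fintype.card ι = 2 * d) (htype : IsPlus (⇑Q) d ↔ (Even d ∨ IsSquare (-1 : F))) :
    ∃ X : Matrix ι ι F, X * X = -1 ∧ ∀ v, Q (X *ᵥ v) = Q v := by
  let e : ι ≃ Fin d ⊕ Fin d := Fintype.equivOfCardEq (by simp; omega)
  let Q₀ : QuadraticForm F (ι → F) := QuadraticMap.weightedSumSquares F fun _ : ι => (1 : F)
  have hQ₀ : ∀ v, Q₀ v = ∑ i, v i * v i := fun v => by simp [Q₀, QuadraticMap.weightedSumSquares_apply]
  have hQ₀n : Q₀.polarBilin.Nondegenerate := by
    have key : ∀ x, (∀ y, polar ⇑Q₀ x y = 0) → x = 0 := fun x hx => funext fun i => by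
      have h := hx (Pi.single i 1)
      simp only [QuadraticMap.polar, hQ₀, Pi.add_apply, ← Finset.sum_sub_distrib] at h
      rw [Finset.sum_eq_single i (fun k _ hk => by simp [hk]) (by simp)] at h
      simp only [Pi.single_eq_same] at h
      exact (mul_eq_zero.1 (show 2 * x i = 0 by linear_combination h)).resolve_left h2
    exact ⟨key, fun x hx => key x fun y => by rw [QuadraticMap.polar_comm]; exact hx y⟩
  let J : Matrix ι ι F := (fromBlocks (0 : Matrix (Fin d) (Fin d) F) (-1) (1 : Matrix (Fin d) (Fin d) F) (0 : Matrix (Fin d) (Fin d) F)).submatrix e e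
  have hJ : J * J = -1 := by
    have hb : fromBlocks (0 : Matrix (Fin d) (Fin d) F) (-1) (1 : Matrix (Fin d) (Fin d) F) (0 : Matrix (Fin d) (Fin d) F) * fromBlocks (0 : Matrix (Fin d) (Fin d) F) (-1) (1 : Matrix (Fin d) (Fin d) F) (0 : Matrix (Fin d) (Fin d) F) = -1 := by
      simp [fromBlocks_multiply, ← fromBlocks_one, fromBlocks_neg]
    simp only [J, Matrix.submatrix_mul_equiv, hb]
    simp [Matrix.submatrix_neg, Matrix.submatrix_one_equiv]
  have hJQ : ∀ v, Q₀ (J *ᵥ v) = Q₀ v := fun v => by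
    rw [hQ₀, hQ₀, ← Equiv.sum_comp e.symm, ← Equiv.sum_comp e.symm (fun i => v i * v i)]
    simp only [J, Matrix.submatrix_mulVec_equiv, Function.comp_apply, Equiv.apply_symm_apply, fromBlocks_mulVec,
      Fintype.sum_sum_type, Sum.elim_inl, Sum.elim_inr, zero_mulVec, neg_mulVec, one_mulVec, zero_add, add_zero,
      Pi.neg_apply, neg_mul_neg]
    exact add_comm _ _
  have ht := (sqNeg_type' h2 hQ₀n hJ hJQ).2
  rw [show Fintype.card ι / 2 = d by omega] at ht
  obtain ⟨T, hT⟩ := exists_isometry Q Q₀ hQ hQ₀n hd (htype.trans ht.symm)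
  refine ⟨(T : Matrix ι ι F) * J * ((T⁻¹ : GL ι F) : Matrix ι ι F), ?_, fun v => ?_⟩
  · calc _ = (T : Matrix ι ι F) * (J * (((T⁻¹ : GL ι F) : Matrix ι ι F) * (T : Matrix ι ι F)) * J) *
          ((T⁻¹ : GL ι F) : Matrix ι ι F) := by noncomm_ring
      _ = -1 := by rw [Units.inv_mul, mul_one, hJ, mul_neg, mul_one, neg_mul, Units.mul_inv]
  · rw [← mulVec_mulVec, ← mulVec_mulVec, hT, hJQ, ← hT, mulVec_mulVec, Units.mul_inv, one_mulVec]

section spinor

variable [DecidableEq F]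

/-- Membership in `Ω` of an isometry of square `-1`. -/
theorem sqNeg_mem_omega_iff (h2 : (2 : F) ≠ 0) {Q : QuadraticForm F (ι → F)} (hQ : Q.polarBilin.Nondegenerate)
    {x : GL ι F} (hx : x ∈ Cfsg.isometryGroup F (⇑Q)) (hxx : (x : Matrix ι ι F) * (x : Matrix ι ι F) = -1)
    {d : ℕ} (hd : Fintype.card ι = 2 * d) :
    x ∈ Cfsg.Geo.omegaGL (⇑Q) ↔ (Even d ∨ IsSquare (2 : F)) := by
  classical
  obtain ⟨δ, hδ⟩ := FiniteField.exists_nonsquare (F := F) (fun hc => h2 (by
    have : CharP F 2 := ringChar.of_eq hc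
    exact CharTwo.two_eq_zero))
  let g : O Q := ⟨x, hx⟩
  let c : ℤˣ × ℤˣ := if IsSquare (2 : F) then 1 else (-1, -1)
  suffices key : ∀ (k : ℕ) (M : Submodule F (ι → F)) (g : O Q), Module.finrank F M = 2 * k →
      Cfsg.Geo.IsNondegenerateOn (polar ⇑Q) M → (∀ y ∈ M, app g y ∈ M ∧ app g (app g y) = -y) →
      (∀ y, (∀ u ∈ M, polar ⇑Q y u = 0) → app g y = y) → chiPair Q δ g = c ^ k by
    have hg := key d ⊤ g (by rw [finrank_top, Module.finrank_fintype_fun_eq_card, hd])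
      (fun w _ hw => by
        obtain ⟨v, hv⟩ : ∃ v, polar ⇑Q w v ≠ 0 := by
          by_contra hno
          push Not at hno
          exact hw (hQ.1 w hno)
        exact ⟨⟨v, trivial, by rwa [QuadraticMap.polar_comm]⟩, ⟨v, trivial, hv⟩⟩)
      (fun y _ => ⟨trivial, by rw [app_apply, app_apply]; exact sqNeg_app hxx y⟩)
      (fun y hy => by rw [show y = 0 from hQ.1 y fun u => hy u trivial, map_zero])
    have hiff : x ∈ Cfsg.Geo.omegaGL (⇑Q) ↔ g ∈ commutator (O Q) :=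
      ⟨fun ⟨y, hy, hyx⟩ => by rwa [show g = y from Subtype.ext hyx.symm], fun h => ⟨g, h, rfl⟩⟩
    rw [hiff, commutator_eq hQ h2 hδ, MonoidHom.mem_ker, hg]
    by_cases hs : IsSquare (2 : F)
    · simp [c, hs]
    · rw [show c = (-1, -1) from if_neg hs]
      rcases Nat.even_or_odd d with he | ho
      · simp [he, he.neg_one_pow]
      · simp [ho.neg_one_pow, Nat.not_even_iff_odd.2 ho, hs]
  intro k
  induction k with
  | zero =>
    intro M g hM _ _ hfix
    rw [(Submodule.finrank_eq_zero (S := M)).1 (by simpa using hM)] at hfix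
    rw [show g = 1 from ext_app fun y => by rw [app_one]; exact hfix y (by simp), map_one, pow_zero]
  | succ k ih =>
    intro M g hM hMn hgM hfix
    -- an anisotropic vector of `M`
    obtain ⟨v, hvM, hv⟩ : ∃ v ∈ M, Q v ≠ 0 := by
      by_contra hno
      push Not at hno
      obtain ⟨u, hu, hu0⟩ := Submodule.exists_mem_ne_zero_of_ne_bot (show M ≠ ⊥ from fun h => by
        rw [h, finrank_bot] at hM; omega)
      obtain ⟨-, y, hy, hne⟩ := hMn u hu hu0
      exact hne (by simp [QuadraticMap.polar, hno _ (M.add_mem hu hy), hno u hu, hno y hy])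
    set w := app g v with hw
    have hwM : w ∈ M := (hgM v hvM).1
    have hgw : app g w = -v := (hgM v hvM).2
    have hQw : Q w = Q v := Q_app g v
    have hvw : polar ⇑Q v w = 0 := by
      have h := polar_app g v w
      rw [← hw, hgw, polar_neg_right, QuadraticMap.polar_comm, eq_comm, eq_neg_iff_add_eq_zero, ← two_mul] at h
      exact (mul_eq_zero.1 h).resolve_left h2
    have hwv : polar ⇑Q w v = 0 := by rw [QuadraticMap.polar_comm, hvw]
    have hd2 : Q (v - w) = 2 * Q v := by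
      rw [sub_eq_add_neg, QuadraticMap.map_add Q, QuadraticMap.map_neg, polar_neg_right, hvw, hQw]
      ring
    have hd0 : Q (v - w) ≠ 0 := hd2 ▸ mul_ne_zero h2 hv
    set R := refl Q (v - w) * refl Q w with hR
    have hswap : app (refl Q (v - w)) v = w ∧ app (refl Q (v - w)) w = v := by
      constructor <;> rw [app_refl, hd2, polar_sub_right]
      · rw [polar_self', hvw, sub_zero, inv_mul_cancel₀ (mul_ne_zero h2 hv), one_smul, sub_sub_cancel]
      · rw [polar_self', hwv, hQw, zero_sub, mul_neg, inv_mul_cancel₀ (mul_ne_zero h2 hv), neg_smul, one_smul,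
          sub_neg_eq_add, add_sub_cancel]
    have hRv : app R v = w := by rw [hR, app_mul, app_refl_of_ortho hvw, hswap.1]
    have hRw : app R w = -v := by
      rw [hR, app_mul, app_refl_self (show Q w ≠ 0 from hQw ▸ hv), map_neg, hswap.2]
    have hRfix : ∀ y, polar ⇑Q y v = 0 → polar ⇑Q y w = 0 → app R y = y := fun y hyv hyw => by
      rw [hR, app_mul, app_refl_of_ortho hyw, app_refl_of_ortho (by rw [polar_sub_right, hyv, hyw, sub_zero])]
    set g' := R⁻¹ * g with hg'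
    have hRi : ∀ a b, app R a = b → app R⁻¹ b = a := fun a b h => by rw [← h, app_inv_app]
    let f : M →ₗ[F] F × F := ((Q.polarBilin.flip v).prod (Q.polarBilin.flip w)).comp M.subtype
    have hf : ∀ y : M, f y = (polar ⇑Q (y : ι → F) v, polar ⇑Q (y : ι → F) w) := fun y => rfl
    let M' : Submodule F (ι → F) := (LinearMap.ker f).map M.subtype
    have hmem : ∀ y, y ∈ M' ↔ y ∈ M ∧ polar ⇑Q y v = 0 ∧ polar ⇑Q y w = 0 := fun y => by
      constructor
      · rintro ⟨⟨y, hy⟩, hy0, rfl⟩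
        rw [SetLike.mem_coe, LinearMap.mem_ker, hf, Prod.mk_eq_zero] at hy0
        exact ⟨hy, hy0⟩
      · rintro ⟨hy, h1, h3⟩
        exact ⟨⟨y, hy⟩, by rw [SetLike.mem_coe, LinearMap.mem_ker, hf, Prod.mk_eq_zero]; exact ⟨h1, h3⟩, rfl⟩
    have hvv : polar ⇑Q v v ≠ 0 := by rw [polar_self']; exact mul_ne_zero h2 hv
    have hww : polar ⇑Q w w ≠ 0 := by rw [polar_self', hQw]; exact mul_ne_zero h2 hv
    -- projection onto `M'`
    have hproj : ∀ u ∈ M, ∃ a b : F, u - a • v - b • w ∈ M' := fun u hu => by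
      refine ⟨polar ⇑Q u v / polar ⇑Q v v, polar ⇑Q u w / polar ⇑Q w w, (hmem _).2
        ⟨M.sub_mem (M.sub_mem hu (M.smul_mem _ hvM)) (M.smul_mem _ hwM), ?_, ?_⟩⟩ <;>
        simp [polar_sub_left, polar_smul_left, hvw, hwv, hQw, h2, hv]
    have hM' : Module.finrank F M' = 2 * k := by
      rw [Submodule.finrank_map_subtype_eq]
      have hsurj : Function.Surjective f := fun ab => by
        refine ⟨⟨(ab.1 / polar ⇑Q v v) • v + (ab.2 / polar ⇑Q w w) • w,
          M.add_mem (M.smul_mem _ hvM) (M.smul_mem _ hwM)⟩, ?_⟩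
        rw [hf]
        simp [polar_add_left, polar_smul_left, hvw, hwv, hQw, h2, hv]
      have := f.finrank_range_add_finrank_ker
      rw [LinearMap.range_eq_top.2 hsurj, finrank_top, Module.finrank_prod, Module.finrank_self, hM] at this
      omega
    have hMn' : Cfsg.Geo.IsNondegenerateOn (polar ⇑Q) M' := by
      intro u hu hu0
      obtain ⟨huM, huv, huw⟩ := (hmem u).1 hu
      obtain ⟨-, y, hy, hne⟩ := hMn u huM hu0
      obtain ⟨a, b, hab⟩ := hproj y hy
      have e : polar ⇑Q u (y - a • v - b • w) = polar ⇑Q u y := by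
        simp [polar_sub_right, polar_smul_right, huv, huw]
      exact ⟨⟨_, hab, by rw [QuadraticMap.polar_comm, e]; exact hne⟩, ⟨_, hab, by rw [e]; exact hne⟩⟩
    have hgy : ∀ y ∈ M', app g y ∈ M' := fun y hy => by
      obtain ⟨hyM, hyv, hyw⟩ := (hmem y).1 hy
      refine (hmem _).2 ⟨(hgM y hyM).1, ?_, ?_⟩
      · rw [show v = -app g w by rw [hgw, neg_neg], polar_neg_right, polar_app, hyw, neg_zero]
      · rw [hw, polar_app, hyv]
    have hg'y : ∀ y ∈ M', app g' y = app g y := fun y hy => by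
      obtain ⟨-, h1, h3⟩ := (hmem _).1 (hgy y hy)
      rw [hg', app_mul]
      exact hRi _ _ (hRfix _ h1 h3)
    have hrec := ih M' g' hM' hMn' (fun y hy => ⟨(hg'y y hy).symm ▸ hgy y hy, by
        rw [hg'y y hy, hg'y _ (hgy y hy)]; exact (hgM y ((hmem y).1 hy).1).2⟩) (fun y hy => by
      -- `g'` fixes `v`, `w` and the complement of `M`
      set a := polar ⇑Q y v / polar ⇑Q v v
      set b := polar ⇑Q y w / polar ⇑Q w w
      have hperp : ∀ u ∈ M, polar ⇑Q (y - a • v - b • w) u = 0 := fun u hu => by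
        obtain ⟨s, t, hst⟩ := hproj u hu
        obtain ⟨-, h1, h3⟩ := (hmem _).1 hst
        have e1 := hy _ hst
        rw [show u = (u - s • v - t • w) + s • v + t • w by abel]
        generalize u - s • v - t • w = z at *
        simp only [polar_add_right, polar_smul_right, polar_sub_left, polar_smul_left, smul_eq_mul, e1,
          QuadraticMap.polar_comm (f := ⇑Q) v z, QuadraticMap.polar_comm (f := ⇑Q) w z, h1, h3, hvw, hwv]
        simp [a, b, hQw, h2, hv]
      have hz : app g' (y - a • v - b • w) = y - a • v - b • w := by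
        rw [hg', app_mul, hfix _ hperp]
        exact hRi _ _ (hRfix _ (hperp v hvM) (hperp w hwM))
      have hgv : app g' v = v := by rw [hg', app_mul, ← hw]; exact hRi _ _ hRv
      have hgw' : app g' w = w := by rw [hg', app_mul, hgw]; exact hRi _ _ hRw
      calc app g' y = app g' ((y - a • v - b • w) + a • v + b • w) := by rw [show (y - a • v - b • w) + a • v + b • w = y by abel]
        _ = y := by rw [map_add, map_add, map_smul, map_smul, hz, hgv, hgw']; abel)
    have hgR : g = R * g' := by rw [hg', mul_inv_cancel_left]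
    rw [hgR, map_mul, hrec, pow_succ', hR, map_mul, chiPair_refl h2 hδ hd0,
      chiPair_refl h2 hδ (show Q w ≠ 0 from hQw ▸ hv), hd2, hQw]
    congr 1
    by_cases h2s : IsSquare (2 : F)
    · have : IsSquare (2 * Q v) ↔ IsSquare (Q v) :=
        ⟨fun h => by simpa [mul_div_assoc, mul_comm (2 : F), h2] using h.div h2s, fun h => h2s.mul h⟩
      simp only [c, h2s, if_true, this]
      split_ifs <;> rfl
    · have : IsSquare (2 * Q v) ↔ ¬ IsSquare (Q v) := by
        rw [← quadraticChar_one_iff_isSquare (mul_ne_zero h2 hv), map_mul,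
          quadraticChar_neg_one_iff_not_isSquare.2 h2s, ← quadraticChar_neg_one_iff_not_isSquare]
        constructor <;> intro h <;> linear_combination -h
      simp only [c, h2s, if_false, this]
      split_ifs <;> rfl

end spinor

/-- Whether `2` is a square. -/
theorem isSquare_two_iff' {q : ℕ} (hq : Fintype.card F = q) (hodd : q % 2 = 1) :
    IsSquare (2 : F) ↔ q % 8 = 1 ∨ q % 8 = 7 := by
  rw [FiniteField.isSquare_two_iff, hq]
  omega

theorem isSquare_neg_one_iff' {q : ℕ} (hq : Fintype.card F = q) (hodd : q % 2 = 1) :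
    IsSquare (-1 : F) ↔ q % 4 = 1 := by
  rw [FiniteField.isSquare_neg_one_iff, hq]
  omega

omit [Fintype F] in
theorem sq_eq_neg_one_of_scalar {Q : QuadraticForm F (ι → F)} (hQ : Q.polarBilin.Nondegenerate)
    (hι : 0 < Fintype.card ι) {x : GL ι F} (hx : x ∈ Cfsg.isometryGroup F (⇑Q)) {z : F}
    (hz : ((x ^ 2 : GL ι F) : Matrix ι ι F) = z • (1 : Matrix ι ι F)) :
    (x : Matrix ι ι F) * (x : Matrix ι ι F) = 1 ∨ (x : Matrix ι ι F) * (x : Matrix ι ι F) = -1 := by
  have hz1 : z * z = 1 := scalar_sq_eq_one hQ hι fun v => by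
    have := (pow_mem hx 2 : x ^ 2 ∈ Cfsg.isometryGroup F (⇑Q)) v v
    simpa [hz, smul_mulVec] using this
  rw [← Units.val_mul, ← pow_two x, hz]
  rcases mul_self_eq_one_iff.1 hz1 with rfl | rfl
  · exact Or.inl (one_smul _ _)
  · exact Or.inr (by rw [neg_smul, one_smul])

/-- When do all elements of order 2 of the simple group fix a member: only `X * X = -1` matters. -/
theorem projFix_two (h2 : (2 : F) ≠ 0) {Q : QuadraticForm F (ι → F)} (hQ : Q.polarBilin.Nondegenerate) {d : ℕ}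
    (hd : Fintype.card ι = 2 * d) (hd2 : 2 ≤ d) {W₀ : Submodule F (ι → F)}
    (hW₀ : Cfsg.Geo.IsNondegenerateOn (polar ⇑Q) W₀) (hm0 : 0 < Module.finrank F W₀)
    (hmn : Module.finrank F W₀ < Fintype.card ι) {C : Submodule F (ι → F) → Prop}
    (hC : ∀ W, C W ↔ InClass (⇑Q) W₀ W) :
    ProjFix 2 (⇑Q) C ↔
      ((IsPlus (⇑Q) d ↔ (Even d ∨ IsSquare (-1 : F))) → (Even d ∨ IsSquare (2 : F)) →
        ∃ k, Module.finrank F W₀ = 2 * k ∧
          (Cfsg.Geo.IsPlusTypeOn (⇑Q) W₀ ↔ (Even k ∨ IsSquare (-1 : F)))) := by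
  classical
  constructor
  · intro h ht hs
    obtain ⟨X, hX, hXQ⟩ := exists_sqNeg h2 Q hQ hd ht
    let x : GL ι F := ⟨X, -X, by rw [mul_neg, hX, neg_neg], by rw [neg_mul, hX, neg_neg]⟩
    have hx : x ∈ Cfsg.isometryGroup F (⇑Q) := fun u _ => hXQ u
    obtain ⟨W, hW, hWi⟩ := h x ((sqNeg_mem_omega_iff h2 hQ hx hX hd).2 hs)
      ⟨-1, by rw [neg_smul, one_smul, pow_two, Units.val_mul]; exact hX⟩ (fun z hz => by
        have hxz : X = z • (1 : Matrix ι ι F) := hz
        obtain ⟨v, hv⟩ := exists_value_ne_zero hQ (by omega)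
        have ho := sqNeg_ortho h2 hX hXQ v
        rw [hxz, smul_mulVec, one_mulVec, polar_smul_right, polar_self', smul_eq_mul, mul_eq_zero] at ho
        have hz0 := ho.resolve_right (mul_ne_zero h2 hv)
        rw [hz0, zero_smul] at hxz
        have h1 := hXQ v
        rw [hxz, zero_mulVec, QuadraticMap.map_zero] at h1
        exact hv h1.symm)
    obtain ⟨hWn, hWiso⟩ := (hC W).1 hW
    obtain ⟨heven, htyp⟩ := sqNeg_subspace h2 hQ hX hXQ hWn hWi
    obtain ⟨k, hk⟩ := heven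
    have hk2 : Module.finrank F W = 2 * k := by omega
    obtain ⟨e, he⟩ := hWiso
    have hk0 : Module.finrank F W₀ = 2 * k := e.finrank_eq.trans hk2
    exact ⟨k, hk0, (((inClass_iff_type hQ hW₀ hk0 W).1 ((hC W).1 hW)).2.2).symm.trans (htyp k hk2)⟩
  · intro h x hx ⟨z, hz⟩ hns
    have hxQ := isometry_of_mem_omegaGL hx
    have hXQ : ∀ v, Q ((x : Matrix ι ι F) *ᵥ v) = Q v := fun v => hxQ v v
    rcases sq_eq_neg_one_of_scalar hQ (by omega) hxQ hz with hxx | hxx
    · obtain ⟨W, hW, hWi⟩ := invol_fix h2 hQ (by omega) hW₀ hm0 hmn hxx hXQ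
      exact ⟨W, (hC W).2 hW, hWi⟩
    · have ht := (sqNeg_type' h2 hQ hxx hXQ).2
      rw [show Fintype.card ι / 2 = d by omega] at ht
      obtain ⟨k, hk, htyp⟩ := h ht ((sqNeg_mem_omega_iff h2 hQ hxQ hxx hd).1 hx)
      obtain ⟨W, hWd, hWn, hWi⟩ := sqNeg_exists_subspace h2 hQ hxx hXQ k (by omega)
      exact ⟨W, (hC W).2 ((inClass_iff_type hQ hW₀ hk W).2 ⟨hWd, hWn,
        ((sqNeg_subspace h2 hQ hxx hXQ hWn hWi).2 k hWd).trans htyp.symm⟩), hWi⟩

end CfsgLib.OrthFix
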