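import Cfsg.Agent.Lib.OrthFix.Driver
import Cfsg.Agent.Lib.POmega.Forms

/-!
Members of each class; arithmetic of block counts.
-/

set_option autoImplicit false
set_option linter.unusedSectionVars false

namespace CfsgLib.OrthFix

open Matrix QuadraticMap CfsgLib.PrimeClasses CfsgLib.QuadType

variable {F : Type*} [Field F] [Fintype F] {ι κ : Type} [Fintype ι] [DecidableEq ι]
  [Fintype κ] [DecidableEq κ]

/-- A copy of a smaller form. -/
theorem exists_subspace_of_form (h2 : (2 : F) ≠ 0) (Q : QuadraticForm F (ι → F)) (hQ : Q.polarBilin.Nondegenerate)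
    (Q₁ : QuadraticForm F (κ → F)) (hQ₁ : Q₁.polarBilin.Nondegenerate) (hκ : Fintype.card κ < Fintype.card ι) :
    ∃ W : Submodule F (ι → F), Module.finrank F W = Fintype.card κ ∧ Cfsg.Geo.IsNondegenerateOn (polar ⇑Q) W ∧
      ∀ k, Fintype.card κ = 2 * k → (Cfsg.Geo.IsPlusTypeOn (⇑Q) W ↔ IsPlus (⇑Q₁) k) := by
  let e : (Fin (Fintype.card κ) → F) ≃ₗ[F] (κ → F) := LinearEquiv.funCongrLeft F F (Fintype.equivFin κ)
  obtain ⟨G, hG, hGn⟩ := nondeg_of_qEquiv Q₁ hQ₁ (f := fun v => Q₁ (e v))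
    ⟨e.symm, fun v => by simp⟩
  obtain ⟨b, Q₂, E, hE⟩ := exists_splits_of_form h2 Q hQ G hGn hκ
  refine ⟨summand E, by rw [finrank_summand, Fintype.card_fin], hE.nondegenerateOn hQ, fun k hk => ?_⟩
  rw [hE.isPlusTypeOn_iff (k := k) (by simpa using hk)]
  exact (isPlus_congr ⟨e, fun v => (congrFun hG v).symm⟩ k).symm

theorem exists_plus_subspace (h2 : (2 : F) ≠ 0) (Q : QuadraticForm F (ι → F)) (hQ : Q.polarBilin.Nondegenerate)
    {k : ℕ} (hk : 2 * k < Fintype.card ι) :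
    ∃ W : Submodule F (ι → F), Module.finrank F W = 2 * k ∧ Cfsg.Geo.IsNondegenerateOn (polar ⇑Q) W ∧
      Cfsg.Geo.IsPlusTypeOn (⇑Q) W := by
  obtain ⟨W, h1, h2', h3⟩ := exists_subspace_of_form h2 Q hQ (CfsgLib.Orth.plusQ k F)
    (CfsgLib.Orth.plusQ_nondegenerate k) (by simpa [← two_mul] using hk)
  refine ⟨W, by simpa [← two_mul] using h1, h2', (h3 k (by simp [two_mul])).2 ?_⟩
  rw [CfsgLib.Orth.plusQ_coe]
  exact isPlus_plusForm k

theorem exists_minus_subspace (h2 : (2 : F) ≠ 0) (Q : QuadraticForm F (ι → F)) (hQ : Q.polarBilin.Nondegenerate)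
    {k : ℕ} (hk0 : 1 ≤ k) (hk : 2 * k < Fintype.card ι) :
    ∃ W : Submodule F (ι → F), Module.finrank F W = 2 * k ∧ Cfsg.Geo.IsNondegenerateOn (polar ⇑Q) W ∧
      ¬ Cfsg.Geo.IsPlusTypeOn (⇑Q) W := by
  obtain ⟨a, c, hac⟩ := exists_anisotropic_binary (F := F)
  obtain ⟨W, h1, h2', h3⟩ := exists_subspace_of_form h2 Q hQ (CfsgLib.Orth.minusQ (k - 1) F a c)
    (CfsgLib.Orth.minusQ_nondegenerate h2 hac) (by simp; omega)
  refine ⟨W, by rw [h1]; simp; omega, h2', fun h => ?_⟩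
  have := (h3 k (by simp; omega)).1 h
  rw [CfsgLib.Orth.minusQ_coe] at this
  exact not_isPlus_minusForm hac (by omega) this

/-- Classes given by an isometry to a fixed subspace. -/
theorem inClass_iff_iso {Q : (ι → F) → F} {W₀ : Submodule F (ι → F)} {m : ℕ} (hm : Module.finrank F W₀ = m)
    (W : Submodule F (ι → F)) :
    InClass Q W₀ W ↔ Module.finrank F W = m ∧ Cfsg.Geo.IsNondegenerateOn (polar Q) W ∧
      Cfsg.Geo.AreIsometricFor Q W W₀ := by
  constructor
  · rintro ⟨h1, e, he⟩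
    exact ⟨e.finrank_eq.symm.trans hm, h1, isometric_symm ⟨e, he⟩⟩
  · rintro ⟨-, h1, h3⟩
    exact ⟨h1, isometric_symm h3⟩

/-- Singular subspaces of a non-degenerate subspace have at most half its dimension. -/
theorem two_mul_singular_le {Q : QuadraticForm F (ι → F)} (hQ : Q.polarBilin.Nondegenerate)
    {W T : Submodule F (ι → F)} (hW : Cfsg.Geo.IsNondegenerateOn (polar ⇑Q) W) (hTW : T ≤ W)
    (hT : Cfsg.Geo.IsTotallySingularQuad (⇑Q) T) : 2 * Module.finrank F T ≤ Module.finrank F W := by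
  obtain ⟨a, b, Q₁, Q₂, E, hE, rfl, ha, -⟩ := exists_splits hW
  let φ := (summand E).subtype.comp (summandEquiv E).toLinearMap
  have hφ : Function.Injective φ := Subtype.val_injective.comp (summandEquiv E).injective
  have hmap : (T.comap φ).map φ = T := by
    rw [Submodule.map_comap_eq, inf_eq_right]
    intro w hw
    exact ⟨(summandEquiv E).symm ⟨w, hTW hw⟩, by simp [φ]⟩
  have h1 := (Submodule.equivMapOfInjective φ hφ (T.comap φ)).finrank_eq
  rw [hmap] at h1
  have h2 := CfsgLib.Orth.two_finrank_le (hE.nondeg_left hQ) (W := T.comap φ) fun u hu => by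
    rw [← hE.apply_summand]
    exact hT _ hu
  rw [Fintype.card_fin] at h2
  omega

theorem div_split (a b c : ℕ) (hc : 0 < c) :
    (a % c + b % c < c ∧ (a + b) % c = a % c + b % c ∧ (a + b) / c = a / c + b / c) ∨
      (c ≤ a % c + b % c ∧ (a + b) % c + c = a % c + b % c ∧ (a + b) / c = a / c + b / c + 1) := by
  have h1 := Nat.mod_lt a hc
  have h2 := Nat.mod_lt b hc
  rcases lt_or_ge (a % c + b % c) c with h | h
  · exact Or.inl ⟨h, by rw [Nat.add_mod, Nat.mod_eq_of_lt h],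
      by rw [Nat.add_div hc, if_neg (by omega), add_zero]⟩
  · refine Or.inr ⟨h, ?_, by rw [Nat.add_div hc, if_pos h]⟩
    rw [Nat.add_mod, Nat.mod_eq_sub_mod h, Nat.mod_eq_of_lt (by omega)]
    omega

theorem div_diag (n m c : ℕ) (hc : 0 < c) :
    m % c = n % c → (n + m - 2 * (n % c)) / c = n / c + m / c := fun h => by
  have h1 := Nat.div_add_mod n c
  have h2 := Nat.div_add_mod m c
  rw [show n + m - 2 * (n % c) = c * (n / c + m / c) by rw [mul_add]; omega, Nat.mul_div_cancel_left _ hc]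

theorem div_small (a c : ℕ) (hc : 0 < c) : (a < c ∧ a / c = 0 ∧ a % c = a) ∨ (c ≤ a ∧ 1 ≤ a / c) := by
  rcases lt_or_ge a c with h | h
  · exact Or.inl ⟨h, Nat.div_eq_of_lt h, Nat.mod_eq_of_lt h⟩
  · exact Or.inr ⟨h, (Nat.one_le_div_iff hc).2 h⟩

theorem mod_parity (n i : ℕ) : n % cc i % 2 = n % 2 :=
  Nat.mod_mod_of_dvd _ (even_iff_two_dvd.1 (cc_even i))

theorem top_of_odd {n : ℕ} (hn : Odd n) (P : Prop) (i : ℕ) : top n P i = n / cc i := by
  rw [top, if_pos]
  refine Or.inl fun h => Nat.not_even_iff_odd.2 hn ?_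
  exact even_iff_two_dvd.2 ((even_iff_two_dvd.1 (cc_even i)).trans (Nat.dvd_of_mod_eq_zero h))

theorem top_plus (n i : ℕ) {P : Prop} (hP : P) :
    top n P i = if n % cc i ≠ 0 ∨ i % 2 = 1 ∨ n / cc i % 2 = 0 then n / cc i else n / cc i - 1 := by
  classical
  unfold top
  refine if_congr ?_ rfl rfl
  rw [iff_true_left hP, Nat.odd_iff, Nat.even_iff]

theorem top_minus (n i : ℕ) {P : Prop} (hP : ¬ P) :
    top n P i = if n % cc i ≠ 0 ∨ (i % 2 = 0 ∧ n / cc i % 2 = 1) then n / cc i else n / cc i - 1 := by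
  classical
  unfold top
  refine if_congr ?_ rfl rfl
  rw [iff_false_left hP, Nat.odd_iff, Nat.even_iff]
  omega

theorem cc_of_odd {i : ℕ} (h : Odd i) : cc i = 2 * i := by rw [cc, if_neg (Nat.not_even_iff_odd.2 h)]

theorem cc_of_even {i : ℕ} (h : Even i) : cc i = i := by rw [cc, if_pos h]

end CfsgLib.OrthFix
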