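import Cfsg.Agent.Lib.OrthFix.Realised

/-!
Tuples with a given number of blocks, and their parts.
-/

set_option autoImplicit false
set_option linter.unusedSectionVars false

namespace CfsgLib.OrthFix

open CfsgLib.PrimeClasses

variable {F : Type*} [Field F] [Fintype F] {r : ℕ} [hr : Fact r.Prime] {hrK : (r : F) ≠ 0}

theorem IsSym.add' {e : Orbits hrK} {c d : Orbits hrK → ℕ} (hc : IsSym e c) (hd : IsSym e d) :
    IsSym e (c + d) := fun ω => by simp [hc ω, hd ω]

theorem IsSym.sub' {e : Orbits hrK} {c d : Orbits hrK → ℕ} (hc : IsSym e c) (hd : IsSym e d) :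
    IsSym e (c - d) := fun ω => by simp [hc ω, hd ω]

theorem IsBlocks.add {d d' : Orbits hrK → ℕ} {N N' : ℕ} (h : IsBlocks hrK d N) (h' : IsBlocks hrK d' N') :
    IsBlocks hrK (d + d') (N + N') :=
  ⟨IsSym.add' h.1 h'.1, by
    simp only [Pi.add_apply, Finset.sum_add_distrib, mul_add, h.2, h'.2, add_mul]⟩

theorem IsBlocks.unique {d : Orbits hrK → ℕ} {N N' : ℕ} (h : IsBlocks hrK d N) (h' : IsBlocks hrK d N') :
    N = N' :=
  Nat.eq_of_mul_eq_mul_right (cc_pos (isz_pos hrK)) (h.2.symm.trans h'.2)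

theorem isBlocks_zero : IsBlocks hrK (0 : Orbits hrK → ℕ) 0 := ⟨fun _ => rfl, by simp⟩

/-- One block. -/
theorem exists_one_block (hr2 : r ≠ 2) (ω : Orbits hrK) :
    ∃ b : Orbits hrK → ℕ, IsBlocks hrK b 1 ∧
      ∀ d : Orbits hrK → ℕ, IsSym (orb hrK (-1)) d → 0 < d ω → ∀ η, b η ≤ d η := by
  classical
  rcases Nat.even_or_odd (isz hrK) with he | ho
  · have h1 : orb hrK (-1) = 1 := (orb_neg_one_eq_one_iff hrK hr2).2 he
    refine ⟨Pi.single ω 1, ⟨fun η => by rw [h1, one_mul], ?_⟩, fun d _ hd η => ?_⟩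
    · rw [Finset.sum_pi_single', if_pos (Finset.mem_univ _), cc, if_pos he, one_mul, mul_one]
    · by_cases h : η = ω
      · subst h; rw [Pi.single_eq_same]; omega
      · rw [Pi.single_eq_of_ne h]; omega
  · have hne := orb_ne hr2 hrK ho
    have hω : orb hrK (-1) * ω ≠ ω := fun h => hne (mul_eq_right.1 h)
    refine ⟨Pi.single ω 1 + Pi.single (orb hrK (-1) * ω) 1, ⟨fun η => ?_, ?_⟩, fun d hd hpos η => ?_⟩
    · have e : ∀ x : Orbits hrK, orb hrK (-1) * (orb hrK (-1) * x) = x := fun x => by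
        rw [← mul_assoc, orb_neg_one_sq, one_mul]
      simp only [Pi.add_apply, Pi.single_apply]
      have a1 : (orb hrK (-1) * η = ω) ↔ (η = orb hrK (-1) * ω) :=
        ⟨fun h => by rw [← h, e], fun h => by rw [h, e]⟩
      have a2 : (orb hrK (-1) * η = orb hrK (-1) * ω) ↔ η = ω := mul_right_inj _
      simp only [a1, a2]
      omega
    · simp only [Pi.add_apply, Finset.sum_add_distrib, Finset.sum_pi_single', if_pos (Finset.mem_univ _)]
      rw [cc, if_neg (Nat.not_even_iff_odd.2 ho)]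
      ring
    · simp only [Pi.add_apply]
      by_cases h : η = ω
      · subst h; rw [Pi.single_eq_same, Pi.single_eq_of_ne (Ne.symm hω)]; omega
      · rw [Pi.single_eq_of_ne h]
        by_cases h' : η = orb hrK (-1) * ω
        · subst h'; rw [Pi.single_eq_same, hd ω]; omega
        · rw [Pi.single_eq_of_ne h']; omega

theorem exists_isBlocks (hr2 : r ≠ 2) (N : ℕ) : ∃ d : Orbits hrK → ℕ, IsBlocks hrK d N := by
  induction N with
  | zero => exact ⟨0, isBlocks_zero⟩
  | succ N ih =>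
    obtain ⟨d, hd⟩ := ih
    obtain ⟨b, hb, -⟩ := exists_one_block hr2 (hrK := hrK) 1
    exact ⟨d + b, hd.add hb⟩

/-- A tuple of `N₁ + N₂` blocks splits. -/
theorem exists_split_blocks (hr2 : r ≠ 2) (N₁ : ℕ) : ∀ {d : Orbits hrK → ℕ} {N₂ : ℕ},
    IsBlocks hrK d (N₁ + N₂) → ∃ d₁ d₂, IsBlocks hrK d₁ N₁ ∧ IsBlocks hrK d₂ N₂ ∧ d₁ + d₂ = d := by
  induction N₁ with
  | zero => exact fun {d N₂} h => ⟨0, d, isBlocks_zero, by rwa [Nat.zero_add] at h, zero_add d⟩
  | succ N ih =>
    intro d N₂ h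
    obtain ⟨ω, hω⟩ : ∃ ω, 0 < d ω := by
      by_contra hno
      push Not at hno
      have h2 := h.2
      simp only [fun ω => Nat.le_zero.1 (hno ω), Finset.sum_const_zero, mul_zero] at h2
      have := cc_pos (isz_pos (F := F) hrK)
      have := Nat.mul_pos (show 0 < N + 1 + N₂ by omega) this
      omega
    obtain ⟨b, hb, hbd⟩ := exists_one_block hr2 ω
    have hle := hbd d h.1 hω
    have hsub : IsBlocks hrK (d - b) (N + N₂) := by
      refine ⟨IsSym.sub' h.1 hb.1, ?_⟩
      have e : ∑ η, (d - b) η + ∑ η, b η = ∑ η, d η := by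
        rw [← Finset.sum_add_distrib]
        exact Finset.sum_congr rfl fun η _ => Nat.sub_add_cancel (hle η)
      have h2 := h.2
      rw [← e, mul_add, hb.2, show N + 1 + N₂ = N + N₂ + 1 by omega, add_mul] at h2
      exact Nat.add_right_cancel h2
    obtain ⟨d₁, d₂, h1, h2, h3⟩ := ih hsub
    refine ⟨d₁ + b, d₂, h1.add hb, h2, ?_⟩
    rw [add_right_comm, h3]
    funext η
    exact Nat.sub_add_cancel (hle η)

end CfsgLib.OrthFix
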