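import Cfsg.Agent.Lib.OrthFix.Space
import Cfsg.Agent.Lib.OrthFix.Arith

/-!
Types of orthogonal sums; odd-dimensional spaces; realised tuples in terms of blocks.
-/

set_option autoImplicit false
set_option linter.unusedSectionVars false

namespace CfsgLib.OrthFix

open Matrix QuadraticMap CfsgLib.PrimeClasses CfsgLib.QuadType

variable {F : Type*} [Field F] [Fintype F] {ι κ μ : Type} [Fintype ι] [DecidableEq ι]
  [Fintype κ] [DecidableEq κ] [Fintype μ] [DecidableEq μ]

omit [Fintype F] in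
theorem isPlus_congr {f : (ι → F) → F} {g : (κ → F) → F} (h : QEquiv g f) (k : ℕ) :
    IsPlus f k ↔ IsPlus g k := by
  obtain ⟨e, he⟩ := h
  constructor
  · rintro ⟨U, hU, hd⟩
    refine ⟨U.map e.symm.toLinearMap, ?_, by rw [LinearEquiv.finrank_map_eq, hd]⟩
    rintro _ ⟨u, hu, rfl⟩
    rw [← he, LinearEquiv.coe_toLinearMap, LinearEquiv.apply_symm_apply]
    exact hU u hu
  · rintro ⟨U, hU, hd⟩
    refine ⟨U.map e.toLinearMap, ?_, by rw [LinearEquiv.finrank_map_eq, hd]⟩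
    rintro _ ⟨u, hu, rfl⟩
    rw [LinearEquiv.coe_toLinearMap, he]
    exact hU u hu

omit [Fintype F] in
theorem qEquiv_of_iso {f : (κ → F) → F} {g : (ι → F) → F} (e : (κ → F) ≃ₗ[F] (ι → F))
    (he : ∀ v, g (e v) = f v) : QEquiv f g := ⟨e, he⟩

theorem isPlus_plusForm (k : ℕ) : IsPlus (Cfsg.quadFormPlus k F) k :=
  exists_ts_of_plus (LinearEquiv.refl F _) fun _ => rfl

omit [Fintype F] in
theorem not_isPlus_minusForm {k : ℕ} {a b : F}
    (hab : ∀ z₁ z₂ : F, z₁ ^ 2 + a * z₁ * z₂ + b * z₂ ^ 2 = 0 → z₁ = 0 ∧ z₂ = 0) {j : ℕ} (hj : k < j) :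
    ¬ IsPlus (Cfsg.quadFormMinus k F a b) j := fun ⟨U, hU, hd⟩ => by
  exact absurd (hd.symm.le.trans (no_ts_of_minus hab (LinearEquiv.refl F _) (fun _ => rfl) U hU)) (by omega)

/-- Even-dimensional spaces are standard, with a prescribed anisotropic plane. -/
theorem qEquiv_standard (Q : QuadraticForm F (κ → F)) (hQ : Q.polarBilin.Nondegenerate) {k : ℕ}
    (hk : Fintype.card κ = 2 * k) {a c : F}
    (hac : ∀ z₁ z₂ : F, z₁ ^ 2 + a * z₁ * z₂ + c * z₂ ^ 2 = 0 → z₁ = 0 ∧ z₂ = 0) :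
    (IsPlus (⇑Q) k → QEquiv (Cfsg.quadFormPlus k F) ⇑Q) ∧
    (¬ IsPlus (⇑Q) k → 1 ≤ k ∧ QEquiv (Cfsg.quadFormMinus (k - 1) F a c) ⇑Q) := by
  constructor <;> intro h
  · rcases classify Q hQ hk with ⟨e, he⟩ | ⟨hk1, a', b', hab, e, he⟩
    · exact qEquiv_of_iso e he
    · obtain ⟨U, hU, hd⟩ := h
      have := no_ts_of_minus hab e he U hU
      omega
  · rcases classify Q hQ hk with ⟨e, he⟩ | ⟨hk1, a', b', hab, e, he⟩
    · exact absurd (exists_ts_of_plus e he) h
    · refine ⟨hk1, ?_⟩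
      obtain ⟨T, hT⟩ := CfsgLib.FieldPOmega.exists_minus_iso (k - 1) hac hab
      refine QEquiv.trans ?_ (qEquiv_of_iso e he)
      refine qEquiv_of_iso (Matrix.toLin'OfInv T.inv_mul T.mul_inv) fun v => ?_
      have h1 := hT v
      rw [CfsgLib.Orth.minusQ_coe, CfsgLib.Orth.minusQ_coe] at h1
      exact h1

omit [Fintype F] in
theorem nondeg_of_qEquiv (Q : QuadraticForm F (κ → F)) (hQ : Q.polarBilin.Nondegenerate)
    {f : (μ → F) → F} (h : QEquiv (⇑Q) f) :
    ∃ G : QuadraticForm F (μ → F), ⇑G = f ∧ G.polarBilin.Nondegenerate := by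
  obtain ⟨e, he⟩ := h
  refine ⟨Q.comp e.symm.toLinearMap, funext fun v => by
    rw [QuadraticMap.comp_apply, ← he]
    simp, ?_⟩
  have key : ∀ u, (∀ v, polar Q (e.symm u) (e.symm v) = 0) → u = 0 := fun u hu =>
    e.symm.map_eq_zero_iff.1 (hQ.1 _ fun v => by
      obtain ⟨w, rfl⟩ := e.symm.surjective v
      exact hu w)
  have hp : ∀ u v, polar ⇑(Q.comp e.symm.toLinearMap) u v = polar ⇑Q (e.symm u) (e.symm v) := fun u v => by
    simp [QuadraticMap.polar, map_add]
  exact ⟨fun u hu => key u fun v => by rw [← hp]; exact hu v,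
    fun u hu => key u fun v => by rw [← hp, QuadraticMap.polar_comm]; exact hu v⟩

/-- The type of an orthogonal sum. -/
theorem Splits.isPlus_iff {Q : QuadraticForm F (ι → F)} {Q₁ : QuadraticForm F (κ → F)}
    {Q₂ : QuadraticForm F (μ → F)} {E : (κ ⊕ μ → F) ≃ₗ[F] (ι → F)} (h : Splits Q Q₁ Q₂ E)
    (hQ : Q.polarBilin.Nondegenerate) {a b : ℕ} (ha : Fintype.card κ = 2 * a) (hb : Fintype.card μ = 2 * b) :
    IsPlus (⇑Q) (a + b) ↔ (IsPlus (⇑Q₁) a ↔ IsPlus (⇑Q₂) b) := by
  obtain ⟨a₀, c₀, hac⟩ := exists_anisotropic_binary (F := F)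
  have h1 := qEquiv_standard Q₁ (h.nondeg_left hQ) ha hac
  have h2 := qEquiv_standard Q₂ (h.nondeg_right hQ) hb hac
  have hsum : QEquiv (qSum ⇑Q₁ ⇑Q₂) ⇑Q := qEquiv_of_iso E h
  by_cases p1 : IsPlus (⇑Q₁) a <;> by_cases p2 : IsPlus (⇑Q₂) b
  · refine iff_of_true ?_ (iff_of_true p1 p2)
    rw [isPlus_congr ((plus_add_plus' rfl).symm.trans (((h1.1 p1).qSum_congr (h2.1 p2)).trans hsum))]
    exact isPlus_plusForm _
  · obtain ⟨hb1, e2⟩ := h2.2 p2
    refine iff_of_false ?_ (fun h => p2 (h.1 p1))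
    rw [isPlus_congr ((plus_add_minus' a₀ c₀ (show a + (b - 1) = a + b - 1 by omega)).symm.trans
      (((h1.1 p1).qSum_congr e2).trans hsum))]
    exact not_isPlus_minusForm hac (by omega)
  · obtain ⟨ha1, e1⟩ := h1.2 p1
    refine iff_of_false ?_ (fun h => p1 (h.2 p2))
    rw [isPlus_congr ((minus_add_plus' a₀ c₀ (show a - 1 + b = a + b - 1 by omega)).symm.trans
      ((e1.qSum_congr (h2.1 p2)).trans hsum))]
    exact not_isPlus_minusForm hac (by omega)
  · obtain ⟨ha1, e1⟩ := h1.2 p1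
    obtain ⟨hb1, e2⟩ := h2.2 p2
    refine iff_of_true ?_ (iff_of_false p1 p2)
    rw [isPlus_congr ((minus_add_minus' hac (show a - 1 + (b - 1) + 2 = a + b by omega)).symm.trans
      ((e1.qSum_congr e2).trans hsum))]
    exact isPlus_plusForm _

/-- An odd-dimensional space is similar to the standard one. -/
theorem qEquiv_odd (Q : QuadraticForm F (κ → F)) (hQ : Q.polarBilin.Nondegenerate) {k : ℕ}
    (hk : Fintype.card κ = 2 * k + 1) :
    (2 : F) ≠ 0 ∧ ∃ s : F, s ≠ 0 ∧ QEquiv (fun v => s * Cfsg.quadFormOdd k F v) ⇑Q := by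
  classical
  obtain ⟨S⟩ := Cfsg.Agent.WittBasis57.exists_split Q ⊤ (Cfsg.Agent.WittBasis57.nondeg_top Q hQ)
  have hdim := S.dim
  rw [finrank_top, Module.finrank_fintype_fun_eq_card, hk] at hdim
  have hU2 := Cfsg.Agent.WittBasis57.finrank_le_two Q S.aniso
  have hU1 : Module.finrank F S.U = 1 := by omega
  have hSk : S.k = k := by omega
  subst hSk
  obtain ⟨u, hu0, hspan⟩ := finrank_eq_one_iff'.1 hU1
  set s := Q (u : κ → F) with hs
  have hs0 : s ≠ 0 := fun h => hu0 (Subtype.ext (S.aniso _ u.2 h))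
  have h2 : (2 : F) ≠ 0 := by
    intro h
    refine hu0 (Subtype.ext (S.nd _ u.2 fun v hv => ?_))
    obtain ⟨c, hc⟩ := hspan ⟨v, hv⟩
    have hcv : v = c • (u : κ → F) := (congrArg Subtype.val hc).symm
    rw [hcv, map_smul, Cfsg.Agent.WittBasis57.polarBilin_self, h, zero_mul, smul_zero]
  refine ⟨h2, s, hs0, ?_⟩
  let L := Fintype.linearCombination F
    (Sum.elim (fun _ : Unit => (u : κ → F)) (Sum.elim S.e fun i => s • S.f i))
  have hv : ∀ v, L v = ∑ i, v (.inr (.inl i)) • S.e i + ∑ i, (v (.inr (.inr i)) * s) • S.f i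
      + v (.inl ()) • (u : κ → F) := fun v => by
    simp [L, Fintype.linearCombination_apply, Fintype.sum_sum_type, smul_smul]
    abel
  have hinj : Function.Injective L := by
    rw [← LinearMap.ker_eq_bot, Submodule.eq_bot_iff]
    intro v hv0
    rw [LinearMap.mem_ker, hv] at hv0
    have hli := Cfsg.Agent.WittBasis57.split_indep Q S (ι := Unit) (u := fun _ => (u : κ → F))
      (LinearIndependent.of_subsingleton () (fun h => hu0 (Subtype.ext h))) (fun _ => u.2)
    have := Fintype.linearIndependent_iff.1 hli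
      (Sum.elim (Sum.elim (fun i => v (.inr (.inl i))) fun i => v (.inr (.inr i)) * s) fun _ => v (.inl ()))
      (by simpa [Fintype.sum_sum_type] using hv0)
    funext i
    rcases i with i | i | i
    · exact this (.inr i)
    · exact this (.inl (.inl i))
    · exact (mul_eq_zero.1 (this (.inl (.inr i)))).resolve_right hs0
  refine qEquiv_of_iso (L.linearEquivOfInjective hinj (by simp [hk]; omega)) fun v => ?_
  rw [LinearMap.linearEquivOfInjective_apply, hv, map_split_comb Q S _ _ (S.U.smul_mem _ u.2),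
    QuadraticMap.map_smul, ← hs]
  simp only [Cfsg.quadFormOdd, Finset.mul_sum, smul_eq_mul, mul_add]
  rw [add_comm]
  congr 1
  · ring
  · exact Finset.sum_congr rfl fun i _ => by ring

end CfsgLib.OrthFix
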