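import Cfsg.Agent.Lib.Orth.NegOne
import Cfsg.Prelude.Def_GeometricClasses

/-!
Unipotent elements of `Ω⁺` of order `p` whose invariant subspaces have large singular parts, in every characteristic.
-/

set_option autoImplicit false
set_option linter.unusedSectionVars false

namespace CfsgLib.OrthFix

open Matrix

variable {F : Type*} [Field F] {d : ℕ}

/-- `U - Uᵀ`. -/
def altM (U : Matrix (Fin d) (Fin d) F) : Matrix (Fin d) (Fin d) F := U - Uᵀ

/-- The unipotent radical element attached to `U`. -/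
def upGL (U : Matrix (Fin d) (Fin d) F) : GL (Fin d ⊕ Fin d) F :=
  ⟨fromBlocks 1 (altM U) 0 1, fromBlocks 1 (-altM U) 0 1,
    by simp [fromBlocks_multiply, fromBlocks_one],
    by simp [fromBlocks_multiply, fromBlocks_one]⟩

theorem upGL_coe (U : Matrix (Fin d) (Fin d) F) :
    (upGL U : Matrix (Fin d ⊕ Fin d) (Fin d ⊕ Fin d) F) = fromBlocks 1 (altM U) 0 1 := rfl

theorem upGL_add (U V : Matrix (Fin d) (Fin d) F) : upGL (U + V) = upGL U * upGL V :=
  Units.ext (by simp [upGL_coe, fromBlocks_multiply, altM, sub_add_sub_comm, add_comm U])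

theorem upGL_zero : upGL (0 : Matrix (Fin d) (Fin d) F) = 1 :=
  Units.ext (by simp [upGL_coe, altM, fromBlocks_one])

theorem upGL_nsmul (U : Matrix (Fin d) (Fin d) F) (k : ℕ) : upGL U ^ k = upGL (k • U) := by
  induction k with
  | zero => rw [pow_zero, zero_nsmul, upGL_zero]
  | succ k ih => rw [pow_succ, ih, succ_nsmul, upGL_add]

theorem altM_quad (U : Matrix (Fin d) (Fin d) F) (t : Fin d → F) : (altM U *ᵥ t) ⬝ᵥ t = 0 := by
  rw [altM, sub_mulVec, sub_dotProduct, mulVec_transpose, ← dotProduct_mulVec, dotProduct_comm, sub_self]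

theorem plus_eq_dotProduct (v : Fin d ⊕ Fin d → F) :
    Cfsg.quadFormPlus d F v = (v ∘ Sum.inl) ⬝ᵥ (v ∘ Sum.inr) := rfl

theorem upGL_mulVec (U : Matrix (Fin d) (Fin d) F) (v : Fin d ⊕ Fin d → F) :
    (upGL U : Matrix (Fin d ⊕ Fin d) (Fin d ⊕ Fin d) F) *ᵥ v =
      Sum.elim (v ∘ Sum.inl + altM U *ᵥ (v ∘ Sum.inr)) (v ∘ Sum.inr) := by
  rw [upGL_coe, fromBlocks_mulVec]
  simp

theorem upGL_mem (U : Matrix (Fin d) (Fin d) F) :
    upGL U ∈ Cfsg.isometryGroup F (Cfsg.quadFormPlus d F) := fun v _ => by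
  show Cfsg.quadFormPlus d F ((upGL U : Matrix (Fin d ⊕ Fin d) (Fin d ⊕ Fin d) F) *ᵥ v) = Cfsg.quadFormPlus d F v
  rw [upGL_mulVec, plus_eq_dotProduct, plus_eq_dotProduct, Sum.elim_comp_inl, Sum.elim_comp_inr,
    add_dotProduct, altM_quad, add_zero]

/-- A Levi element. -/
def leviGL (A B : Matrix (Fin d) (Fin d) F) (A' B' : Matrix (Fin d) (Fin d) F) (h1 : A * A' = 1) (h2 : A' * A = 1)
    (h3 : B * B' = 1) (h4 : B' * B = 1) : GL (Fin d ⊕ Fin d) F :=
  ⟨fromBlocks A 0 0 B, fromBlocks A' 0 0 B', by simp [fromBlocks_multiply, h1, h3, fromBlocks_one],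
    by simp [fromBlocks_multiply, h2, h4, fromBlocks_one]⟩

theorem leviGL_mem {A B A' B' : Matrix (Fin d) (Fin d) F} (h1 : A * A' = 1) (h2 : A' * A = 1)
    (h3 : B * B' = 1) (h4 : B' * B = 1) (hAB : Aᵀ * B = 1) :
    leviGL A B A' B' h1 h2 h3 h4 ∈ Cfsg.isometryGroup F (Cfsg.quadFormPlus d F) := fun v _ => by
  show Cfsg.quadFormPlus d F (fromBlocks A 0 0 B *ᵥ v) = Cfsg.quadFormPlus d F v
  rw [plus_eq_dotProduct, plus_eq_dotProduct, fromBlocks_mulVec, Sum.elim_comp_inl, Sum.elim_comp_inr]
  simp only [zero_mulVec, add_zero, zero_add]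
  rw [dotProduct_mulVec, ← mulVec_transpose, mulVec_mulVec]
  rw [show Bᵀ * A = 1 by rw [← transpose_transpose A, ← transpose_mul, hAB, transpose_one], one_mulVec]

open scoped commutatorElement in
theorem upGL_single_mem (hd : 3 ≤ d) (k j : Fin d) (c : F) :
    upGL (Matrix.single k j c) ∈ Cfsg.Geo.omegaGL (Cfsg.quadFormPlus d F) := by
  rcases eq_or_ne k j with rfl | hkj
  · have : upGL (Matrix.single k k c) = 1 := Units.ext (by simp [upGL_coe, altM, fromBlocks_one])
    rw [this]
    exact one_mem _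
  obtain ⟨i, hik, hij⟩ : ∃ i : Fin d, i ≠ k ∧ i ≠ j := by
    by_contra hno
    push Not at hno
    have : (Finset.univ : Finset (Fin d)) ⊆ {k, j} := fun i _ => by
      by_cases h : i = k
      · simp [h]
      · simp [hno i h]
    have := Finset.card_le_card this
    have := Finset.card_le_two (a := k) (b := j)
    simp at *
    omega
  set E := Matrix.single k i (1 : F) with hE
  set E' := Matrix.single i k (1 : F) with hE'
  have hEE : E * E = 0 := Matrix.single_mul_single_of_ne _ _ _ _ hik _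
  have hEE' : E' * E' = 0 := Matrix.single_mul_single_of_ne _ _ _ _ hik.symm _
  have h1 : (1 + E) * (1 - E) = 1 := by simp [add_mul, mul_sub, hEE]
  have h2 : (1 - E) * (1 + E) = 1 := by simp [sub_mul, mul_add, hEE]
  have h3 : (1 - E') * (1 + E') = 1 := by simp [sub_mul, mul_add, hEE']
  have h4 : (1 + E') * (1 - E') = 1 := by simp [add_mul, mul_sub, hEE']
  have hT : (1 + E)ᵀ = 1 + E' := by simp [hE, hE', Matrix.transpose_single]
  set L := leviGL (1 + E) (1 - E') (1 - E) (1 + E') h1 h2 h3 h4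
  have hL : L ∈ Cfsg.isometryGroup F (Cfsg.quadFormPlus d F) := leviGL_mem h1 h2 h3 h4 (by rw [hT, h4])
  set S := Matrix.single i j c with hS
  have hz : ∀ (a : Fin d) (x y : F), Matrix.single a j x * Matrix.single i k y = 0 := fun a x y =>
    Matrix.single_mul_single_of_ne _ _ _ _ hij.symm _
  have hstep : (1 + E) * S * (1 + E') = S + Matrix.single k j c := by
    simp [hE, hE', hS, add_mul, mul_add, Matrix.single_mul_single_same, hz]
  have hconj : L * upGL S * L⁻¹ = upGL (S + Matrix.single k j c) := by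
    refine Units.ext ?_
    show fromBlocks (1 + E) 0 0 (1 - E') * fromBlocks 1 (altM S) 0 1 * fromBlocks (1 - E) 0 0 (1 + E') =
      fromBlocks 1 (altM (S + Matrix.single k j c)) 0 1
    rw [fromBlocks_multiply, fromBlocks_multiply, ← hstep]
    simp only [mul_one, Matrix.mul_zero, Matrix.zero_mul, add_zero, zero_add, h1, h3, altM, transpose_mul]
    rw [hT, show (1 + E')ᵀ = 1 + E by rw [← hT, transpose_transpose]]
    simp [mul_sub, sub_mul, mul_assoc]
  refine ⟨⁅(⟨L, hL⟩ : Cfsg.isometryGroup F (Cfsg.quadFormPlus d F)), ⟨upGL S, upGL_mem S⟩⁆,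
    Subgroup.commutator_mem_commutator (Subgroup.mem_top _) (Subgroup.mem_top _), ?_⟩
  show L * upGL S * L⁻¹ * (upGL S)⁻¹ = _
  rw [hconj, add_comm, upGL_add, mul_inv_cancel_right]

theorem upGL_mem_omega (hd : 3 ≤ d) (U : Matrix (Fin d) (Fin d) F) :
    upGL U ∈ Cfsg.Geo.omegaGL (Cfsg.quadFormPlus d F) :=
  Matrix.induction_on' U (by rw [upGL_zero]; exact one_mem _)
    (fun A B hA hB => by rw [upGL_add]; exact mul_mem hA hB) (fun i j x => upGL_single_mem hd i j x)

/-- A path: `U - Uᵀ` has kernel of dimension at most one. -/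
def pathM (d : ℕ) (F : Type*) [Field F] : Matrix (Fin d) (Fin d) F :=
  Matrix.of fun i j => if j.val = i.val + 1 then 1 else 0

theorem altM_path_apply (t : Fin d → F) (i : Fin d) :
    (altM (pathM d F) *ᵥ t) i = (if h : i.val + 1 < d then t ⟨i.val + 1, h⟩ else 0) -
      (if h : 0 < i.val then t ⟨i.val - 1, by omega⟩ else 0) := by
  rw [altM, sub_mulVec, Pi.sub_apply]
  simp only [mulVec, dotProduct, pathM, of_apply, transpose_apply, ite_mul, one_mul,
    zero_mul]
  congr 1
  · split_ifs with h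
    · rw [Finset.sum_eq_single (⟨i.val + 1, h⟩ : Fin d) (fun j _ hj => if_neg fun e => hj (Fin.ext e))
        (by simp), if_pos rfl]
    · exact Finset.sum_eq_zero fun j _ => if_neg (by omega)
  · split_ifs with h
    · rw [Finset.sum_eq_single (⟨i.val - 1, by omega⟩ : Fin d)
        (fun j _ hj => if_neg fun e => hj (Fin.ext (show j.val = i.val - 1 by omega))) (by simp),
        if_pos (show i.val = i.val - 1 + 1 by omega)]
    · exact Finset.sum_eq_zero fun j _ => if_neg (by omega)

theorem path_kernel {t : Fin d → F} (ht : altM (pathM d F) *ᵥ t = 0) :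
    ∀ (j : ℕ) (hj : j < d), t ⟨j, hj⟩ = if j % 2 = 0 then t ⟨0, by omega⟩ else 0 := by
  intro j
  induction j using Nat.twoStepInduction with
  | zero => intro hj; simp
  | one =>
    intro hj
    have := congrFun ht ⟨0, by omega⟩
    rw [altM_path_apply] at this
    simpa [hj] using this
  | more n ih _ =>
    intro hj
    have := congrFun ht ⟨n + 1, by omega⟩
    rw [altM_path_apply] at this
    simp only [Pi.zero_apply] at this
    rw [dif_pos (show n + 1 + 1 < d from hj), dif_pos (show 0 < n + 1 by omega), sub_eq_zero] at this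
    rw [this]
    simpa [Nat.add_mod] using ih (by omega)

theorem finrank_ker_path (hd : 1 ≤ d) :
    Module.finrank F (LinearMap.ker (altM (pathM d F)).mulVecLin) ≤ 1 - (d + 1) % 2 := by
  let f : LinearMap.ker (altM (pathM d F)).mulVecLin →ₗ[F] F :=
    (LinearMap.proj ⟨0, hd⟩).comp (Submodule.subtype _)
  have hf : Function.Injective f := by
    rw [injective_iff_map_eq_zero]
    rintro ⟨t, ht⟩ h0
    refine Subtype.ext (funext fun j => ?_)
    rw [show j = ⟨j.val, j.2⟩ from rfl]
    show t _ = 0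
    rw [path_kernel ht j.val j.2, show t ⟨0, _⟩ = 0 from h0]
    simp
  rcases Nat.even_or_odd d with he | ho
  · have hbot : LinearMap.ker (altM (pathM d F)).mulVecLin = ⊥ := by
      rw [Submodule.eq_bot_iff]
      intro t ht
      have h := congrFun (show altM (pathM d F) *ᵥ t = 0 from ht) ⟨d - 1, by omega⟩
      rw [altM_path_apply] at h
      obtain ⟨w, rfl⟩ := he
      rw [dif_neg (show ¬ (w + w - 1 + 1 < w + w) by omega), dif_pos (show 0 < w + w - 1 by omega)] at h
      simp only [zero_sub, Pi.zero_apply, neg_eq_zero] at h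
      rw [path_kernel ht (w + w - 1 - 1) (by omega), if_pos (show (w + w - 1 - 1) % 2 = 0 by omega)] at h
      refine congrArg Subtype.val (hf (a₁ := ⟨t, ht⟩) (a₂ := 0) ?_)
      rw [map_zero]
      exact h
    rw [hbot, finrank_bot]
    exact Nat.zero_le _
  · have := LinearMap.finrank_le_finrank_of_injective hf
    rw [Module.finrank_self] at this
    have := Nat.odd_iff.1 ho
    omega

/-- Every invariant subspace has a singular part of at least about half its dimension. -/
theorem exists_singular_of_invariant {U : Matrix (Fin d) (Fin d) F} {e : ℕ}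
    (he : Module.finrank F (LinearMap.ker (altM U).mulVecLin) ≤ e) {W : Submodule F (Fin d ⊕ Fin d → F)}
    (hW : W.map (Matrix.toLin' (upGL U : Matrix (Fin d ⊕ Fin d) (Fin d ⊕ Fin d) F)) ≤ W) :
    ∃ T : Submodule F (Fin d ⊕ Fin d → F), T ≤ W ∧ Cfsg.Geo.IsTotallySingularQuad (Cfsg.quadFormPlus d F) T ∧
      Module.finrank F W ≤ 2 * Module.finrank F T + e := by
  let f : W →ₗ[F] (Fin d → F) := (LinearMap.funLeft F F Sum.inr).comp W.subtype
  refine ⟨(LinearMap.ker f).map W.subtype, Submodule.map_subtype_le _ _, ?_, ?_⟩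
  · rintro _ ⟨⟨v, hv⟩, hv0, rfl⟩
    show Cfsg.quadFormPlus d F v = 0
    rw [plus_eq_dotProduct, show v ∘ Sum.inr = 0 from hv0, dotProduct_zero]
  · rw [Submodule.finrank_map_subtype_eq]
    have h1 := f.finrank_range_add_finrank_ker
    let g : (LinearMap.range f) →ₗ[F] (Fin d → F) := (altM U).mulVecLin.comp (LinearMap.range f).subtype
    have h2 := g.finrank_range_add_finrank_ker
    have h3 : Module.finrank F (LinearMap.ker g) ≤ e := by
      refine le_trans ?_ he
      refine LinearMap.finrank_le_finrank_of_injective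
        (f := ((LinearMap.range f).subtype.comp (LinearMap.ker g).subtype).codRestrict _ fun t =>
          (show t.1.1 ∈ LinearMap.ker (altM U).mulVecLin from t.2)) fun a b h => ?_
      exact Subtype.ext (Subtype.ext (congrArg Subtype.val h :))
    have h4 : Module.finrank F (LinearMap.range g) ≤ Module.finrank F (LinearMap.ker f) := by
      rw [← Submodule.finrank_map_subtype_eq W (LinearMap.ker f)]
      let emb : (Fin d → F) →ₗ[F] (Fin d ⊕ Fin d → F) :=
        LinearMap.pi (Sum.elim (fun i => LinearMap.proj i) fun _ => 0)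
      have hemb : ∀ s, emb s = Sum.elim s 0 := fun s => funext fun j => by rcases j with j | j <;> simp [emb]
      have hinj : Function.Injective emb := fun a b h => funext fun i => by
        simpa [emb] using congrFun h (Sum.inl i)
      rw [(Submodule.equivMapOfInjective emb hinj (LinearMap.range g)).finrank_eq]
      refine Submodule.finrank_mono ?_
      rintro _ ⟨_, ⟨⟨_, ⟨v, hv⟩, rfl⟩, rfl⟩, rfl⟩
      have hmem : emb (altM U *ᵥ (v ∘ Sum.inr)) ∈ W := by
        have h := W.sub_mem (hW (Submodule.mem_map_of_mem hv)) hv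
        rw [Matrix.toLin'_apply, upGL_mulVec] at h
        rw [hemb]
        convert h using 1
        funext j
        rcases j with j | j <;> simp
      refine ⟨⟨_, hmem⟩, ?_, rfl⟩
      show emb (altM U *ᵥ (v ∘ Sum.inr)) ∘ Sum.inr = 0
      rw [hemb]
      simp
    omega

theorem upGL_pow_char {p : ℕ} [CharP F p] (U : Matrix (Fin d) (Fin d) F) : upGL U ^ p = 1 := by
  rw [upGL_nsmul, show p • U = 0 from Matrix.ext fun i j => by simp [CharP.cast_eq_zero]]
  exact upGL_zero

theorem upGL_path_not_scalar (hd : 2 ≤ d) (z : F) :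
    (upGL (pathM d F) : Matrix (Fin d ⊕ Fin d) (Fin d ⊕ Fin d) F) ≠
      z • (1 : Matrix (Fin d ⊕ Fin d) (Fin d ⊕ Fin d) F) := by
  intro h
  have h1 := congrFun (congrFun h (Sum.inl ⟨0, by omega⟩)) (Sum.inr ⟨1, by omega⟩)
  simp [upGL_coe, altM, pathM] at h1

/-- A subspace of a given smaller dimension. -/
theorem exists_le_finrank {ι : Type} [Fintype ι] {T : Submodule F (ι → F)} {k : ℕ}
    (hk : k ≤ Module.finrank F T) : ∃ U ≤ T, Module.finrank F U = k := by
  let b := Module.finBasis F T
  have hl : LinearIndependent F (b ∘ Fin.castLE hk) := b.linearIndependent.comp _ (Fin.castLE_injective hk)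
  refine ⟨(Submodule.span F (Set.range (b ∘ Fin.castLE hk))).map T.subtype, Submodule.map_subtype_le _ _, ?_⟩
  rw [Submodule.finrank_map_subtype_eq, finrank_span_eq_card hl, Fintype.card_fin]

/-- Invariant subspaces of the path element are of plus type. -/
theorem plus_of_invariant_path (hd : 1 ≤ d) {W : Submodule F (Fin d ⊕ Fin d → F)} {k : ℕ}
    (hk : Module.finrank F W = 2 * k)
    (hW : W.map (Matrix.toLin' (upGL (pathM d F) : Matrix (Fin d ⊕ Fin d) (Fin d ⊕ Fin d) F)) ≤ W) :
    Cfsg.Geo.IsPlusTypeOn (Cfsg.quadFormPlus d F) W := by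
  obtain ⟨T, hTW, hT, hdim⟩ := exists_singular_of_invariant
    ((finrank_ker_path hd).trans (Nat.sub_le _ _)) hW
  obtain ⟨U, hUT, hU⟩ := exists_le_finrank (T := T) (k := k) (by omega)
  exact ⟨U, hUT.trans hTW, fun u hu => hT u (hUT hu), by omega⟩

end CfsgLib.OrthFix
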