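import Cfsg.Agent.Lib.OrthFix.Witness
import Cfsg.Agent.Lib.OrthFix.Subspaces
import Cfsg.Agent.Lib.QuadFin.OrthSum
import Cfsg.Agent.KsAltRank

/-!
In `Ω⁻` an element of order `p` whose invariant non-degenerate subspaces of dimension divisible by four are of
plus type.
-/

set_option autoImplicit false
set_option linter.unusedSectionVars false

namespace CfsgLib.OrthFix

open Matrix QuadraticMap

variable {F : Type*} [Field F] [Fintype F] {e : ℕ}

/-- `upGL U` on the hyperbolic part, the identity on the anisotropic plane. -/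
def upMinus (U : Matrix (Fin e) (Fin e) F) : GL ((Fin e ⊕ Fin e) ⊕ Fin 2) F :=
  CfsgLib.OrthSum.blockGL (upGL U, 1)

theorem upMinus_pow_char {p : ℕ} [CharP F p] (U : Matrix (Fin e) (Fin e) F) : upMinus U ^ p = 1 := by
  rw [upMinus, ← map_pow, Prod.pow_mk, upGL_pow_char, one_pow, ← Prod.one_eq_mk, map_one]

theorem upMinus_mem (he : 3 ≤ e) (U : Matrix (Fin e) (Fin e) F) (a b : F) :
    upMinus U ∈ Cfsg.Geo.omegaGL (Cfsg.quadFormMinus e F a b) := by
  obtain ⟨g, hg, hgU⟩ := upGL_mem_omega he U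
  exact ⟨CfsgLib.OrthSum.blockHom (Cfsg.quadFormPlus e F)
      (fun z : Fin 2 → F => z 0 ^ 2 + a * z 0 * z 1 + b * z 1 ^ 2) (g, 1),
    CfsgLib.OrthSum.prod_commutator_le (CfsgLib.OrthSum.blockHom (Cfsg.quadFormPlus e F)
      (fun z : Fin 2 → F => z 0 ^ 2 + a * z 0 * z 1 + b * z 1 ^ 2))
      (show (g, 1) ∈ (commutator _).prod (commutator _) from ⟨hg, one_mem _⟩),
    by rw [upMinus, ← hgU]; rfl⟩

theorem upMinus_mulVec (U : Matrix (Fin e) (Fin e) F) (v : (Fin e ⊕ Fin e) ⊕ Fin 2 → F) :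
    (upMinus U : Matrix ((Fin e ⊕ Fin e) ⊕ Fin 2) ((Fin e ⊕ Fin e) ⊕ Fin 2) F) *ᵥ v =
      v + Sum.elim (Sum.elim (altM U *ᵥ (v ∘ Sum.inl ∘ Sum.inr)) 0) 0 := by
  rw [upMinus, CfsgLib.OrthSum.blockGL_coe, fromBlocks_mulVec, upGL_mulVec]
  funext j
  rcases j with (j | j) | j <;> simp [Function.comp_assoc]

theorem upMinus_not_scalar (he : 2 ≤ e) (z : F) :
    (upMinus (pathM e F) : Matrix ((Fin e ⊕ Fin e) ⊕ Fin 2) ((Fin e ⊕ Fin e) ⊕ Fin 2) F) ≠
      z • (1 : Matrix ((Fin e ⊕ Fin e) ⊕ Fin 2) ((Fin e ⊕ Fin e) ⊕ Fin 2) F) := by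
  intro h
  rw [upMinus, CfsgLib.OrthSum.blockGL_coe] at h
  have h1 := congrFun (congrFun h (Sum.inl (Sum.inl ⟨0, by omega⟩))) (Sum.inl (Sum.inr ⟨1, by omega⟩))
  simp [upGL_coe, altM, pathM] at h1

theorem plus_of_invariant_minus (he : Even e) (he1 : 1 ≤ e) {a b : F}
    (hab : ∀ x y : F, x ^ 2 + a * x * y + b * y ^ 2 = 0 → x = 0 ∧ y = 0)
    {W : Submodule F ((Fin e ⊕ Fin e) ⊕ Fin 2 → F)} {k : ℕ} (hk : Module.finrank F W = 2 * k) (hke : Even k)
    (hnd : Cfsg.Geo.IsNondegenerateOn (polar (Cfsg.quadFormMinus e F a b)) W)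
    (hW : W.map (Matrix.toLin' (upMinus (pathM e F) : Matrix ((Fin e ⊕ Fin e) ⊕ Fin 2) ((Fin e ⊕ Fin e) ⊕ Fin 2) F)) ≤ W) :
    Cfsg.Geo.IsPlusTypeOn (Cfsg.quadFormMinus e F a b) W := by
  classical
  have hQ := CfsgLib.POmega.minusQ_nondegenerate_any (m := e) hab
  rw [← CfsgLib.Orth.minusQ_coe] at hnd ⊢
  set Q := CfsgLib.Orth.minusQ e F a b with hQdef
  set U := pathM e F with hU
  have hker : LinearMap.ker (altM U).mulVecLin = ⊥ := Submodule.finrank_eq_zero.1 (by
    have := finrank_ker_path (F := F) he1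
    rw [← hU] at this
    have := Nat.even_iff.1 he
    omega)
  let tp : W →ₗ[F] (Fin e → F) := (LinearMap.funLeft F F (fun i => Sum.inl (Sum.inr i))).comp W.subtype
  let zp : W →ₗ[F] (Fin 2 → F) := (LinearMap.funLeft F F Sum.inr).comp W.subtype
  let emb : (Fin e → F) →ₗ[F] ((Fin e ⊕ Fin e) ⊕ Fin 2 → F) :=
    LinearMap.pi (Sum.elim (Sum.elim (fun i => LinearMap.proj i) fun _ => 0) fun _ => 0)
  have hemb : ∀ s, emb s = Sum.elim (Sum.elim s 0) 0 := fun s => funext fun j => by
    rcases j with (j | j) | j <;> simp [emb]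
  let N : W →ₗ[F] ((Fin e ⊕ Fin e) ⊕ Fin 2 → F) := emb ∘ₗ (altM U).mulVecLin ∘ₗ tp
  have hN : ∀ v : W, (upMinus U : Matrix ((Fin e ⊕ Fin e) ⊕ Fin 2) ((Fin e ⊕ Fin e) ⊕ Fin 2) F) *ᵥ
      (v : (Fin e ⊕ Fin e) ⊕ Fin 2 → F) = (v : (Fin e ⊕ Fin e) ⊕ Fin 2 → F) + N v := fun v => by
    rw [upMinus_mulVec]
    simp only [N, LinearMap.comp_apply, hemb]
    rfl
  have hNW : ∀ v : W, N v ∈ W := fun v => by
    have h := W.sub_mem (hW (Submodule.mem_map_of_mem v.2)) v.2
    rwa [Matrix.toLin'_apply, hN, add_sub_cancel_left] at h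
  have hNinj : Function.Injective (emb ∘ₗ (altM U).mulVecLin) := by
    have he : Function.Injective emb := fun u w h => funext fun i => by
      simpa [emb] using congrFun h (Sum.inl (Sum.inl i))
    intro u w h
    exact LinearMap.ker_eq_bot.1 hker (he h)
  have hkerN : LinearMap.ker N = LinearMap.ker tp := by
    ext v
    simp only [LinearMap.mem_ker, N]
    exact (map_eq_zero_iff (emb ∘ₗ (altM U).mulVecLin) hNinj)
  -- the singular part
  let T : Submodule F ((Fin e ⊕ Fin e) ⊕ Fin 2 → F) := (LinearMap.ker (tp.prod zp)).map W.subtype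
  have hT : Cfsg.Geo.IsTotallySingularQuad (⇑Q) T := by
    rintro _ ⟨⟨v, hv⟩, hv0, rfl⟩
    rw [SetLike.mem_coe, LinearMap.mem_ker, LinearMap.prod_apply, Function.prod, Prod.mk_eq_zero] at hv0
    obtain ⟨ht, hz⟩ := hv0
    show Q v = 0
    rw [hQdef, CfsgLib.Orth.minusQ_coe, Cfsg.quadFormMinus]
    simp [show ∀ i, v (.inl (.inr i)) = 0 from congrFun ht, show ∀ i, v (.inr i) = 0 from congrFun hz]
  have hTle := two_mul_singular_le hQ hnd (Submodule.map_subtype_le _ _) hT
  rw [Submodule.finrank_map_subtype_eq, hk] at hTle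
  by_cases hTk : Module.finrank F (LinearMap.ker (tp.prod zp)) = k
  · exact ⟨T, Submodule.map_subtype_le _ _, hT, by rw [Submodule.finrank_map_subtype_eq, hTk, hk]⟩
  exfalso
  have r1 := (tp.prod zp).finrank_range_add_finrank_ker
  have r2 : Module.finrank F (LinearMap.range (tp.prod zp)) ≤ Module.finrank F (LinearMap.range tp) + 2 := by
    have hle : LinearMap.range (tp.prod zp) ≤ (LinearMap.range tp).prod ⊤ := by
      rintro _ ⟨v, rfl⟩
      exact ⟨⟨v, rfl⟩, trivial⟩
    have h := Submodule.finrank_mono hle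
    have hp : Module.finrank F ((LinearMap.range tp).prod (⊤ : Submodule F (Fin 2 → F))) =
        Module.finrank F (LinearMap.range tp) + 2 := by
      let eq : ((LinearMap.range tp).prod (⊤ : Submodule F (Fin 2 → F))) ≃ₗ[F] (LinearMap.range tp) × (Fin 2 → F) :=
        { toFun := fun x => (⟨x.1.1, x.2.1⟩, x.1.2)
          invFun := fun y => ⟨(y.1.1, y.2), y.1.2, trivial⟩
          map_add' := fun _ _ => rfl
          map_smul' := fun _ _ => rfl
          left_inv := fun _ => rfl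
          right_inv := fun _ => rfl }
      rw [eq.finrank_eq, Module.finrank_prod, Module.finrank_fintype_fun_eq_card, Fintype.card_fin]
    omega
  have r3 : Module.finrank F (LinearMap.range N) = Module.finrank F (LinearMap.range tp) := by
    have h1 := N.finrank_range_add_finrank_ker
    have h2 := tp.finrank_range_add_finrank_ker
    rw [hkerN] at h1
    omega
  have r4 : Module.finrank F (LinearMap.range N) ≤ Module.finrank F (LinearMap.ker (tp.prod zp)) := by
    rw [← Submodule.finrank_map_subtype_eq W (LinearMap.ker (tp.prod zp))]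
    refine Submodule.finrank_mono ?_
    rintro _ ⟨v, rfl⟩
    refine ⟨⟨N v, hNW v⟩, ?_, rfl⟩
    rw [SetLike.mem_coe, LinearMap.mem_ker]
    simp only [LinearMap.prod_apply, Function.prod, Prod.mk_eq_zero]
    constructor
    · show (N v) ∘ (fun i => Sum.inl (Sum.inr i)) = 0
      simp only [N, LinearMap.comp_apply, hemb]
      funext i; simp
    · show (N v) ∘ Sum.inr = 0
      simp only [N, LinearMap.comp_apply, hemb]
      funext i; simp
  -- the rank of `N` on `W` is even
  have heven : Even (Module.finrank F (LinearMap.range N)) := by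
    let B := Module.finBasis F W
    let L : (Fin (Module.finrank F W) → F) →ₗ[F] ((Fin e ⊕ Fin e) ⊕ Fin 2 → F) := N ∘ₗ B.equivFun.symm.toLinearMap
    let A : Matrix (Fin (Module.finrank F W)) (Fin (Module.finrank F W)) F :=
      Matrix.of fun i j => Q.polarBilin (B i : (Fin e ⊕ Fin e) ⊕ Fin 2 → F) (N (B j))
    have hA : ∀ c, A *ᵥ c = fun i => Q.polarBilin (B i : (Fin e ⊕ Fin e) ⊕ Fin 2 → F) (L c) := fun c => by
      funext i
      simp only [A, L, Matrix.mulVec, dotProduct, Matrix.of_apply, LinearMap.comp_apply, LinearEquiv.coe_toLinearMap,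
        Module.Basis.equivFun_symm_apply, map_sum, map_smul, smul_eq_mul]
      exact Finset.sum_congr rfl fun j _ => mul_comm _ _
    have halt : ∀ c, c ⬝ᵥ (A *ᵥ c) = 0 := fun c => by
      rw [hA]
      have hw : c ⬝ᵥ (fun i => Q.polarBilin (B i : (Fin e ⊕ Fin e) ⊕ Fin 2 → F) (L c)) =
          Q.polarBilin ((B.equivFun.symm c : W) : (Fin e ⊕ Fin e) ⊕ Fin 2 → F) (L c) := by
        simp [dotProduct, Module.Basis.equivFun_symm_apply, map_sum]
      rw [hw]
      set w : W := B.equivFun.symm c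
      show polar ⇑Q (w : (Fin e ⊕ Fin e) ⊕ Fin 2 → F) (N w) = 0
      rw [hQdef, CfsgLib.Orth.polar_minusQ]
      simp only [N, LinearMap.comp_apply, hemb, Sum.elim_inl, Sum.elim_inr, Pi.zero_apply, mul_zero, add_zero, zero_add]
      rw [← altM_quad U (tp w), dotProduct]
      exact Finset.sum_congr rfl fun i _ => mul_comm _ _
    have hkerA : LinearMap.ker A.mulVecLin = LinearMap.ker L := by
      ext c
      simp only [LinearMap.mem_ker, Matrix.mulVecLin_apply, hA]
      refine ⟨fun h => ?_, fun h => funext fun i => by simp [h]⟩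
      by_contra h0
      obtain ⟨⟨y, hy, hy'⟩, -⟩ := hnd _ (hNW (B.equivFun.symm c)) h0
      have hz : Q.polarBilin.flip (L c) ∘ₗ W.subtype = 0 := B.ext fun i => congrFun h i
      exact hy' (LinearMap.congr_fun hz ⟨y, hy⟩)
    have h1 := LinearMap.finrank_range_add_finrank_ker A.mulVecLin
    have h3 := LinearMap.finrank_range_add_finrank_ker L
    have hLr : LinearMap.range L = LinearMap.range N :=
      LinearMap.range_comp_of_range_eq_top _ B.equivFun.symm.range
    rw [hkerA, ← h3] at h1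
    rw [← hLr, ← Nat.add_right_cancel h1]
    exact Cfsg.Agent.KsAltRank.even_rank A halt
  rw [Nat.even_iff] at heven hke
  omega

end CfsgLib.OrthFix
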